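import Groth.Agent.L16.FinGen.Main
import Groth.Agent.L16.Weights.TorusSetting
import Groth.Agent.L16.GeomRed.Setting
import Groth.Agent.L25.RedOpen.Fibre

/-!
# Finite generation of an algebra from the invariants of a maximal unipotent subgroup
-/

set_option autoImplicit false
set_option backward.isDefEq.respectTransparency.types false
set_option linter.unusedSectionVars false
set_option linter.style.haveILetI false
set_option maxHeartbeats 1600000

universe u

open CategoryTheory MonoidalCategory CartesianMonoidalCategory MonObj AlgebraicGeometry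
open Groth.L14.RankOne Groth.L14.Chart Groth.L14.Chev.Cell Groth.L16.Weights
open scoped TensorProduct

noncomputable section

namespace Groth.L16.FinGen

variable {k : Type u} [Field k] [IsAlgClosed k]

theorem isReductiveGrp_connected {G : Over (Spec (CommRingCat.of k))} [GrpObj G] (h : Red.IsReductiveOver k G) :
    VecGrp.IsReductiveGrp k G :=
  ⟨h.1, h.2.1, G, inferInstance, 𝟙 G, inferInstance, inferInstanceAs (IsOpenImmersion (𝟙 G.left)), h⟩

/-- The split case. -/
theorem finiteType_split {G B U : Over (Spec (CommRingCat.of k))} [GrpObj G] [GrpObj B] [GrpObj U]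
    (D : Red.SplitRed G) (hG : Red.IsReductiveOver k G) (hDT : Red.IsTorus D.T) {iB : B ⟶ G}
    (hB : Red.IsBorelOver k iB) {u : U ⟶ B} (hU : Par.IsUnipotentRadical u) (tB : D.T ⟶ B)
    (htB : tB ≫ iB = D.i) (thmA : VecGrp.ReductiveInvariantsFG k)
    {A : Type u} [CommRing A] [Algebra k A] (ρ : VecGrp.GMod G A) (hρ : ρ.IsMult)
    (hA : Algebra.FiniteType k ↥(ρ.fixedSubalgebra hρ (u ≫ iB))) : Algebra.FiniteType k A := by
  haveI : IsAffine G.left := hG.1
  haveI : Smooth G.hom := hG.2.1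
  haveI : ConnectedSpace G.left := hG.2.2.1
  haveI := hB.1; haveI := hB.2.1; haveI := hB.2.2.1; haveI := hB.2.2.2.1
  haveI := hU.1; haveI := hU.2.1
  haveI := isMonHom_i (D := D)
  haveI : Mono iB := Groth.L08.mono_of_closedImmersion iB
  haveI : Mono u := Over.mono_of_mono_left u
  have hGr := isReductiveGrp_connected hG
  obtain ⟨-, -, -, hUa, hUs, hUc, hUns, hfin⟩ := Groth.L16.GeomRed.borel_radical_setting hGr hB hU thmA
  haveI := hUa; haveI := hUs; haveI := hUc
  obtain ⟨hTa, hTs, -, -, hcomm⟩ := Groth.L08.Borel.torus_props hDT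
  haveI := hTa; haveI := hTs
  -- the positive system of the Borel subgroup
  have hBor : Red.IsBorel iB := isBorel_of_isBorelOver hB
  obtain ⟨b, hb⟩ := Groth.L14.TypeR.exists_base_borel D hBor tB htB
  have hb' := posRoots_subset_roots D hB tB htB b hb
  obtain ⟨m, e, he⟩ := exists_enum (D := D) {a | ∃ v : Red.Ga (Spec (CommRingCat.of k)) ⟶ B, v ≫ iB = D.u a}
  obtain ⟨ψ, hψ⟩ := Groth.L14.TypeR.exists_unip_param D hBor tB htB hU e he
  have hep : RedSub.Enumerates (RedSub.posRoots D.P b) e := Set.Subset.antisymm hb hb' ▸ he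
  -- the opposite Borel subgroup
  obtain ⟨B', _, iB', tB', hB', htB', hneg⟩ := exists_borel_base D (negBase D.P b)
  have hBo' : Red.IsBorelOver k iB' := isBorelOver_of_isBorel hB'
  have hneg' := posRoots_subset_roots D hBo' tB' htB' _ hneg
  haveI := hBo'.1; haveI := hBo'.2.1; haveI := hBo'.2.2.1; haveI := hBo'.2.2.2.1
  haveI : IsAffine B'.left := isAffine_of_isAffineHom iB'.left
  obtain ⟨U', _, u', hU'⟩ := Groth.L14.Luna.exists_unipotentRadical_solvable B' hBo'.2.2.2.2.1
  haveI := hU'.1; haveI := hU'.2.1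
  haveI : Mono iB' := Groth.L08.mono_of_closedImmersion iB'
  haveI : Mono u' := Over.mono_of_mono_left u'
  obtain ⟨-, -, -, hUa', hUs', -, -, hfin'⟩ := Groth.L16.GeomRed.borel_radical_setting hGr hBo' hU' thmA
  haveI := hUa'; haveI := hUs'
  obtain ⟨n, e', he'⟩ := exists_enum (D := D) {a | ∃ v : Red.Ga (Spec (CommRingCat.of k)) ⟶ B', v ≫ iB' = D.u a}
  obtain ⟨ψ', hψ'⟩ := Groth.L14.TypeR.exists_unip_param D hB' tB' htB' hU' e' he'
  have hen : RedSub.Enumerates (RedSub.negRoots D.P b) e' := by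
    rw [← posRoots_negBase]
    exact Set.Subset.antisymm hneg hneg' ▸ he'
  have ha : Attracts ((cocharT D (rhoH D b)).map D.i) (u ≫ iB) :=
    Attracts.congr (attracts_cochar D (u ≫ iB) e he.1 ψ hψ _ fun l =>
      (rhoH_root D b _).1 (hep.2 ▸ Set.mem_range_self l)) (cocharT_map D _)
  have ha' : Attracts ((cocharT D (rhoH D b)).map D.i).neg (u' ≫ iB') := by
    refine Attracts.congr (attracts_cochar D (u' ≫ iB') e' he'.1 ψ' hψ' (-rhoH D b) fun l => ?_) ?_
    · have h2 := (rhoH_root D b (e' l)).2 (hen.2 ▸ Set.mem_range_self l)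
      show 0 < -(rhoH D b (D.P.root (e' l)))
      omega
    · rw [Cochar.neg_map]
      show (cocharT D (rhoH D b)).neg.pt ≫ D.i = _
      rw [cocharT_neg]
      rfl
  have hd : Dense (u' ≫ iB') D.i (u ≫ iB) := dense_of_cell D b hen hep (u ≫ iB) (u' ≫ iB') ψ hψ ψ' hψ'
  have hnorm := exists_conj_mem D (iB := iB) hU.2.2.1 tB htB
  exact finiteType_of_fixed (u ≫ iB) D.i (u' ≫ iB') (cocharT D (rhoH D b)) hUns hfin hfin' thmA
    (isReductiveGrp_connected (Groth.L25.RedOpen.isReductiveOver_torus hDT)) hcomm ha ha' hd hnorm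
    (exists_conj_mem D (iB := iB') hU'.2.2.1 tB' htB') ρ hρ
    (fun _ _ hw hf h0 => nonneg_of_fixed D ρ (u ≫ iB) (u' ≫ iB') b ha' hd hcomm hnorm hw hf h0) hA

/-- The connected case. -/
theorem finiteType_connected {G B U : Over (Spec (CommRingCat.of k))} [GrpObj G] [GrpObj B] [GrpObj U]
    (hG : Red.IsReductiveOver k G) {iB : B ⟶ G}
    (hB : Red.IsBorelOver k iB) {u : U ⟶ B} (hU : Par.IsUnipotentRadical u) (thmA : VecGrp.ReductiveInvariantsFG k)
    {A : Type u} [CommRing A] [Algebra k A] (ρ : VecGrp.GMod G A) (hρ : ρ.IsMult)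
    (hA : Algebra.FiniteType k ↥(ρ.fixedSubalgebra hρ (u ≫ iB))) : Algebra.FiniteType k A := by
  haveI : IsAffine G.left := hG.1
  haveI : Smooth G.hom := hG.2.1
  haveI : ConnectedSpace G.left := hG.2.2.1
  haveI := hB.1; haveI := hB.2.1
  haveI : Mono iB := Groth.L08.mono_of_closedImmersion iB
  obtain ⟨T, gT, iT, p, hiT, hiTm, hT, -, -, -, -, habs⟩ := Groth.L08.Borel.exists_absorbing_of_borel hB
  haveI := hiT; haveI := hiTm
  have hTmax : Red.IsMaximalTorus (iT ≫ iB) := Groth.L08.Borel.isMaximalTorus_of_isMaxTorus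
    (Groth.L08.Borel.isMaxTorus_of_absorbing (iT ≫ iB) hT habs)
  obtain ⟨n, ⟨eT⟩⟩ := Groth.L08.Borel.exists_laurent_of_torus hT
  have hGred := isReductive_of_isReductiveOver hG.2.2.2
  obtain ⟨R⟩ := Groth.L14.Splitting.exists_rootData_local hGred (iT ≫ iB) hTmax
    (eT ≪≫ (Groth.L25.Bridge.dsIso k (Fin n → ℤ)).symm)
  exact finiteType_split (R.splitRed (fun _ => trivial) hGred hTmax) hG hT hB hU iT rfl thmA ρ hρ hA

/-- Finite generation from the invariants of a maximal unipotent subgroup. -/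
theorem finiteType_of_invariants {G B U : Over (Spec (CommRingCat.of k))} [GrpObj G] [GrpObj B] [GrpObj U]
    (hG : VecGrp.IsReductiveGrp k G) {iB : B ⟶ G}
    (hB : Red.IsBorelOver k iB) {u : U ⟶ B} (hU : Par.IsUnipotentRadical u) (thmA : VecGrp.ReductiveInvariantsFG k)
    {A : Type u} [CommRing A] [Algebra k A] (ρ : VecGrp.GMod G A) (hρ : ρ.IsMult)
    (hA : Algebra.FiniteType k ↥(ρ.fixedSubalgebra hρ (u ≫ iB))) : Algebra.FiniteType k A := by
  obtain ⟨hGa, hGs, G₀, _, j, hj, hjo, hGr⟩ := hG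
  haveI := hGa; haveI := hGs; haveI := hj; haveI := hjo
  haveI := hGr.1; haveI := hGr.2.1; haveI := hGr.2.2.1
  haveI := hB.1; haveI := hB.2.1; haveI := hB.2.2.2.1
  have hjd : Groth.L08.Chev.IdCompData j := Groth.L08.SmallNorm.idCompData_of_open j
  haveI := hjd.closedImm
  haveI : Mono j := Groth.L08.mono_of_closedImmersion j
  obtain ⟨b₀, hb₀⟩ := hjd.exists_lift_hom iB
  haveI : IsMonHom b₀ := Groth.L08.Borel.isMonHom_of_comp_mono b₀ j iB hb₀
  have hcl : IsClosedImmersion b₀.left := by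
    haveI : IsClosedImmersion (b₀.left ≫ j.left) := by rw [← Over.comp_left, hb₀]; infer_instance
    exact IsClosedImmersion.of_comp b₀.left j.left
  have hB₀ : Red.IsBorelOver k b₀ := ⟨inferInstance, hcl, hB.2.2.1, hB.2.2.2.1, hB.2.2.2.2.1,
    fun B' _ i' _ f hc hs hcon hsol hf => hB.2.2.2.2.2 B' (i' ≫ j) f
      (by haveI := hc; exact inferInstanceAs (IsClosedImmersion (i'.left ≫ j.left))) hs hcon hsol
      (by rw [reassoc_of% hf, hb₀])⟩
  have hρ₀ : (comap ρ j).IsMult := fun C _ _ g => hρ C (g ≫ j)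
  refine finiteType_connected hGr hB₀ hU thmA (comap ρ j) hρ₀ ?_
  have e : (comap ρ j).fixedSubalgebra hρ₀ (u ≫ b₀) = ρ.fixedSubalgebra hρ (u ≫ iB) := by
    ext x
    show (∀ (C : Type u) [CommRing C] [Algebra k C] (h : VecGrp.pt k C ⟶ U),
        ρ.ρ C ((h ≫ u ≫ b₀) ≫ j) ((1 : C) ⊗ₜ[k] x) = (1 : C) ⊗ₜ[k] x) ↔
      ∀ (C : Type u) [CommRing C] [Algebra k C] (h : VecGrp.pt k C ⟶ U),
        ρ.ρ C (h ≫ u ≫ iB) ((1 : C) ⊗ₜ[k] x) = (1 : C) ⊗ₜ[k] x
    simp only [Category.assoc, hb₀]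
  rw [e]
  exact hA

end Groth.L16.FinGen
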