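import Groth.Agent.L25.Observable.UnipFixed
import Groth.Agent.L25.Observable.AlgAction
import Groth.Agent.L16.Matsushima.Affine
import Groth.Agent.L16.ReductiveQuot.Main
import Mathlib.AlgebraicGeometry.EffectiveEpi
import Mathlib.RingTheory.RingHom.FaithfullyFlat

/-!
# Descending an action along the quotient by a subgroup acting trivially
-/

set_option autoImplicit false
set_option backward.isDefEq.respectTransparency.types false
set_option linter.unusedSectionVars false
set_option linter.style.haveILetI false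
set_option maxHeartbeats 1600000

universe u

open CategoryTheory CategoryTheory.Limits MonoidalCategory CartesianMonoidalCategory MonObj AlgebraicGeometry
open scoped TensorProduct
open Groth.L25.Observable Groth.L16.ReductiveQuot

noncomputable section

namespace Groth.L16.FinGen

variable {k : Type u} [Field k]

/-- A morphism of affine test schemes comes from an algebra map. -/
theorem exists_ptMap {B B' : Type u} [CommRing B] [Algebra k B] [CommRing B'] [Algebra k B']
    (h : VecGrp.pt k B' ⟶ VecGrp.pt k B) : ∃ φ : B →ₐ[k] B', VecGrp.ptMap φ = h := by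
  obtain ⟨t, ht⟩ := Spec.map_surjective (R := CommRingCat.of B) (S := CommRingCat.of B') h.left
  have w : CommRingCat.ofHom (algebraMap k B) ≫ t = CommRingCat.ofHom (algebraMap k B') := by
    refine Spec.map_injective ?_
    rw [Spec.map_comp, ht]
    exact Over.w h
  exact ⟨AlgHom.mk t.hom fun r => congr($(w).hom r), Over.OverMorphism.ext ht⟩

theorem Wmap_comp {B B' B'' V : Type u} [CommRing B] [Algebra k B] [CommRing B'] [Algebra k B'] [CommRing B'']
    [Algebra k B''] [AddCommGroup V] [Module k V] (f : B →ₐ[k] B') (g : B' →ₐ[k] B'') (x : B ⊗[k] V) :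
    VecGrp.Wmap g (VecGrp.Wmap f x) = VecGrp.Wmap (g.comp f) x := by
  induction x using TensorProduct.induction_on with
  | zero => simp
  | add p q hp hq => simp only [map_add, hp, hq]
  | tmul b v => simp

theorem Wmap_injective {B B' : Type u} [CommRing B] [Algebra k B] [CommRing B'] [Algebra k B'] (f : B →ₐ[k] B')
    (hf : Function.Injective f) (V : Type u) [AddCommGroup V] [Module k V] :
    Function.Injective (VecGrp.Wmap (M := V) f) :=
  Module.Flat.rTensor_preserves_injective_linearMap (M := V) f.toLinearMap hf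

/-- A point of the target of a covering lifts after an injective extension of test algebras. -/
theorem exists_lift_cover {K Q : Over (Spec (CommRingCat.of k))} [IsAffine K.left] [IsAffine Q.left] (q : K ⟶ Q)
    [Surjective q.left] [Flat q.left] {B : Type u} [CommRing B] [Algebra k B] (g : VecGrp.pt k B ⟶ Q) :
    ∃ (B' : Type u) (_ : CommRing B') (_ : Algebra k B') (φ : B →ₐ[k] B') (g' : VecGrp.pt k B' ⟶ K),
      Function.Injective φ ∧ g' ≫ q = VecGrp.ptMap φ ≫ g := by
  let W : Over (Spec (CommRingCat.of k)) := Over.mk (pullback.fst g.left q.left ≫ (VecGrp.pt k B).hom)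
  haveI : IsAffine (VecGrp.pt k B).left := inferInstanceAs (IsAffine (Spec _))
  haveI : IsAffineHom q.left := isAffineHom_of_isAffine q.left
  haveI : IsAffineHom (pullback.fst g.left q.left) := MorphismProperty.pullback_fst _ _ inferInstance
  haveI : IsAffine W.left := isAffine_of_isAffineHom (pullback.fst g.left q.left)
  obtain ⟨alg, gen, hgen, -, -⟩ := exists_gen W
  letI := alg
  haveI := hgen
  let a : W ⟶ VecGrp.pt k B := Over.homMk (pullback.fst g.left q.left) rfl
  let b : W ⟶ K := Over.homMk (pullback.snd g.left q.left) (by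
    show pullback.snd g.left q.left ≫ K.hom = pullback.fst g.left q.left ≫ (VecGrp.pt k B).hom
    rw [← Over.w q, ← Over.w g, pullback.condition_assoc])
  have hab : b ≫ q = a ≫ g := Over.OverMorphism.ext (pullback.condition (f := g.left) (g := q.left)).symm
  obtain ⟨φ, hφ⟩ := exists_ptMap (gen ≫ a)
  refine ⟨_, inferInstance, alg, φ, gen ≫ b, ?_, by rw [hφ, Category.assoc, Category.assoc, hab]⟩
  have h1 : Spec.map (CommRingCat.ofHom φ.toRingHom) = gen.left ≫ pullback.fst g.left q.left :=
    congrArg CommaMorphism.left hφ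
  have hf : Flat (Spec.map (CommRingCat.ofHom φ.toRingHom)) := by rw [h1]; infer_instance
  have hs : Surjective (Spec.map (CommRingCat.ofHom φ.toRingHom)) := by rw [h1]; infer_instance
  exact ((flat_and_surjective_SpecMap_iff (CommRingCat.ofHom φ.toRingHom)).1 ⟨hf, hs⟩).injective

variable {K N Q : Over (Spec (CommRingCat.of k))} [GrpObj K] [GrpObj N] [GrpObj Q] [IsAffine K.left] [IsAffine Q.left]
  [IsAffine N.left]

/-- An action trivial on the kernel of a covering homomorphism is an action of its target. -/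
theorem exists_descend (n : N ⟶ K) [IsMonHom n] [Mono n] (q : K ⟶ Q) [IsMonHom q] [Surjective q.left] [Flat q.left]
    [LocallyOfFinitePresentation q.left] (hker : AlgGrp.IsKernel n q) {V : Type u} [AddCommGroup V] [Module k V]
    (ρ : VecGrp.GMod K V) (hfix : ∀ v : V, v ∈ ρ.fixedUnder n) :
    ∃ ρQ : VecGrp.GMod Q V, ∀ (B : Type u) [CommRing B] [Algebra k B] (g : VecGrp.pt k B ⟶ K) (x : B ⊗[k] V),
      ρQ.ρ B (g ≫ q) x = ρ.ρ B g x := by
  classical
  -- the operator of a point depends on its image only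
  have hA : ∀ (B : Type u) [CommRing B] [Algebra k B] (g g' : VecGrp.pt k B ⟶ K),
      g ≫ q = g' ≫ q → ρ.ρ B g = ρ.ρ B g' := by
    intro B _ _ g g' e
    obtain ⟨w, hw, -⟩ := hker.exists_lift (g⁻¹ * g') (toUnit _) (by
      rw [MonObj.mul_comp, GrpObj.inv_comp, e, inv_mul_cancel, Hom.one_def])
    have h1 : ρ.ρ B (w ≫ n) = 1 := LinearEquiv.ext fun x => by
      induction x using TensorProduct.induction_on with
      | zero => simp
      | add p r hp hr => rw [map_add, hp, hr, map_add]
      | tmul b v =>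
        rw [show (b ⊗ₜ[k] v : B ⊗[k] V) = b • ((1 : B) ⊗ₜ[k] v) by
          rw [TensorProduct.smul_tmul', smul_eq_mul, _root_.mul_one], map_smul, hfix v B w]
        rfl
    rw [show g' = g * (w ≫ n) by rw [hw, mul_inv_cancel_left], map_mul, h1, _root_.mul_one]
  obtain ⟨algK, genK, hgenKi, hgenK, hfacK⟩ := exists_gen K
  letI := algK
  obtain ⟨algQ, genQ, -, -, hfacQ⟩ := exists_gen Q
  letI := algQ
  obtain ⟨qs, hqs, hqsv⟩ := hfacQ _ (genK ≫ q)
  have hvalgen : ∀ f, val genK f = f := by
    intro f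
    obtain ⟨φ, hφ, hv⟩ := hfacK _ genK
    refine hgenK _ _ ?_
    conv_rhs => rw [← hφ, val_ptMap, hv]
  have hqsf : ∀ f, qs f = q.left.appTop f := fun f => by rw [hqsv, val_comp, hvalgen]
  haveI : IsAffineHom q.left := isAffineHom_of_isAffine q.left
  haveI : EffectiveEpi q.left := inferInstance
  have hqinj : Function.Injective qs := fun f f' e => by
    rw [hqsf, hqsf] at e
    have h : q.left ≫ toLine f = q.left ≫ toLine f' := by rw [comp_toLine, comp_toLine, e]
    rw [← ofLine_toLine f, ← ofLine_toLine f', (cancel_epi _).1 h]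
  -- invariant functions come from the quotient
  have hrange : ∀ f : Γ(K.left, ⊤), (fst K N).left.appTop f = ((K ◁ n) ≫ μ[K]).left.appTop f →
      ∃ f', qs f' = f := by
    intro f hf
    have sq' := (Groth.L16.Matsushima.isPullback_of_isKernel n q hker).map (Over.forget _)
    obtain ⟨d, hd⟩ : ∃ d : Q.left ⟶ _, q.left ≫ d = toLine f := by
      refine ⟨EffectiveEpi.desc q.left (toLine f) fun {T} p r e => ?_, EffectiveEpi.fac _ _ _⟩
      obtain ⟨l, h1, h2⟩ := sq'.exists_lift p r e
      have key : (fst K N).left ≫ toLine f = ((K ◁ n) ≫ μ[K]).left ≫ toLine f := by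
        rw [comp_toLine, comp_toLine, hf]
      change l ≫ (fst K N).left = p at h1
      change l ≫ ((K ◁ n) ≫ μ[K]).left = r at h2
      rw [← h1, ← h2]
      exact (Category.assoc _ _ _).trans ((congrArg (l ≫ ·) key).trans (Category.assoc _ _ _).symm)
    exact ⟨ofLine d, by rw [hqsf, ← ofLine_comp, hd, ofLine_toLine]⟩
  haveI : IsAffine (K ⊗ N).left := inferInstanceAs (IsAffine (pullback K.hom N.hom))
  obtain ⟨algX, genX, -, hgenX, -⟩ := exists_gen (K ⊗ N)
  letI := algX
  have hinv : ∀ v : V, ∃ c : Γ(Q.left, ⊤) ⊗[k] V,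
      VecGrp.Wmap qs c = ρ.ρ _ genK ((1 : Γ(K.left, ⊤)) ⊗ₜ[k] v) := by
    intro v
    let bs := Module.Free.chooseBasis k V
    let z := ρ.ρ _ genK ((1 : Γ(K.left, ⊤)) ⊗ₜ[k] v)
    let co := (bs.baseChange Γ(K.left, ⊤)).repr z
    have hco : ∀ i, ∃ f', qs f' = co i := fun i => by
      refine hrange _ (hgenX _ _ ?_)
      rw [← val_comp, ← val_comp]
      obtain ⟨φ₁, h₁, hv₁⟩ := hfacK _ (genX ≫ fst K N)
      obtain ⟨φ₂, h₂, hv₂⟩ := hfacK _ (genX ≫ (K ◁ n) ≫ μ[K])
      rw [← hv₁, ← hv₂]
      have e : VecGrp.Wmap φ₁ z = VecGrp.Wmap φ₂ z := by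
        show VecGrp.Wmap φ₁ (ρ.ρ _ genK _) = VecGrp.Wmap φ₂ (ρ.ρ _ genK _)
        rw [ρ.naturality, ρ.naturality, h₁, h₂, VecGrp.Wmap_tmul, VecGrp.Wmap_tmul, map_one, map_one]
        refine congrArg (fun T => T ((1 : Γ((K ⊗ N).left, ⊤)) ⊗ₜ[k] v)) (hA _ _ _ ?_)
        rw [Category.assoc, Category.assoc, (Groth.L16.Matsushima.isPullback_of_isKernel n q hker).w]
      have key : ∀ {C : Type u} [CommRing C] [Algebra k C] (φ : Γ(K.left, ⊤) →ₐ[k] C) (y : Γ(K.left, ⊤) ⊗[k] V),
          φ ((bs.baseChange Γ(K.left, ⊤)).repr y i) = (bs.baseChange C).repr (VecGrp.Wmap φ y) i := by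
        intro C _ _ φ y
        induction y using TensorProduct.induction_on with
        | zero => simp
        | add p r hp hr => simp only [map_add, Finsupp.add_apply, hp, hr]
        | tmul b w => simp [Module.Basis.baseChange_repr_tmul, map_smul]
      show φ₁ ((bs.baseChange Γ(K.left, ⊤)).repr z i) = φ₂ ((bs.baseChange Γ(K.left, ⊤)).repr z i)
      rw [key, key, e]
    choose f' hf' using hco
    refine ⟨∑ i ∈ co.support, f' i ⊗ₜ[k] bs i, ?_⟩
    rw [map_sum]
    simp only [VecGrp.Wmap_tmul, hf']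
    conv_rhs => rw [← (bs.baseChange Γ(K.left, ⊤)).linearCombination_repr
      (ρ.ρ _ genK ((1 : Γ(K.left, ⊤)) ⊗ₜ[k] v))]
    rw [Finsupp.linearCombination_apply, Finsupp.sum]
    refine Finset.sum_congr rfl fun i _ => ?_
    rw [Module.Basis.baseChange_apply, TensorProduct.smul_tmul', smul_eq_mul, _root_.mul_one]
  choose c hc using hinv
  have hcl : ∀ (r : k) (v w : V), c (r • v + w) = r • c v + c w := fun r v w => Wmap_injective qs hqinj V (by
    rw [map_add, map_smul, hc, hc, hc, TensorProduct.tmul_add, TensorProduct.tmul_smul, map_add,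
      ← LinearEquiv.coe_coe, LinearMap.map_smul_of_tower])
  let cl : V →ₗ[k] Γ(Q.left, ⊤) ⊗[k] V :=
    { toFun := c
      map_add' := fun v w => by simpa using hcl 1 v w
      map_smul' := fun r v => by
        have h0 : c 0 = 0 := Wmap_injective qs hqinj V (by rw [hc]; simp)
        simpa [h0] using hcl r v 0 }
  -- the algebra map of a point of the quotient
  choose φQ hφQ hφQv using fun (B : Type u) (_ : CommRing B) (_ : Algebra k B) (g : VecGrp.pt k B ⟶ Q) =>
    hfacQ B g
  let act : ∀ (B : Type u) [CommRing B] [Algebra k B], (VecGrp.pt k B ⟶ Q) → (B ⊗[k] V →ₗ[B] B ⊗[k] V) :=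
    fun B _ _ g => LinearMap.liftBaseChange B ((VecGrp.Wmap (φQ B _ _ g)) ∘ₗ cl)
  have hact : ∀ (B : Type u) [CommRing B] [Algebra k B] (g : VecGrp.pt k B ⟶ Q) (b : B) (v : V),
      act B g (b ⊗ₜ[k] v) = b • VecGrp.Wmap (φQ B _ _ g) (c v) := fun B _ _ g b v =>
    LinearMap.liftBaseChange_tmul _ _ _ _
  have hkey : ∀ (B : Type u) [CommRing B] [Algebra k B] (g : VecGrp.pt k B ⟶ K) (x : B ⊗[k] V),
      act B (g ≫ q) x = ρ.ρ B g x := by
    intro B _ _ g x
    induction x using TensorProduct.induction_on with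
    | zero => simp
    | add p r hp hr => rw [map_add, hp, hr, map_add]
    | tmul b v =>
      obtain ⟨φK, hφK, hvK⟩ := hfacK B g
      have e : φQ B _ _ (g ≫ q) = φK.comp qs := AlgHom.ext fun f => by
        rw [hφQv, AlgHom.comp_apply, hqsf, hvK, val_comp]
      rw [hact, e, ← Wmap_comp, hc, ρ.naturality, hφK, VecGrp.Wmap_tmul, map_one, ← map_smul,
        TensorProduct.smul_tmul', smul_eq_mul, _root_.mul_one]
  have hnat : ∀ {B B' : Type u} [CommRing B] [Algebra k B] [CommRing B'] [Algebra k B'] (ψ : B →ₐ[k] B')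
      (g : VecGrp.pt k B ⟶ Q) (x : B ⊗[k] V),
      VecGrp.Wmap ψ (act B g x) = act B' (VecGrp.ptMap ψ ≫ g) (VecGrp.Wmap ψ x) := by
    intro B B' _ _ _ _ ψ g x
    induction x using TensorProduct.induction_on with
    | zero => simp
    | add p r hp hr => simp only [map_add, hp, hr]
    | tmul b v =>
      have e : φQ B' _ _ (VecGrp.ptMap ψ ≫ g) = ψ.comp (φQ B _ _ g) := AlgHom.ext fun f => by
        rw [hφQv, AlgHom.comp_apply, hφQv, val_ptMap]
      rw [hact, VecGrp.Wmap_smul, VecGrp.Wmap_tmul, hact, e, Wmap_comp]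
  have hone : ∀ (B : Type u) [CommRing B] [Algebra k B] (x : B ⊗[k] V), act B 1 x = x := fun B _ _ x => by
    rw [← MonObj.one_comp q, hkey, map_one]
    rfl
  have hmul : ∀ (B : Type u) [CommRing B] [Algebra k B] (g h : VecGrp.pt k B ⟶ Q) (x : B ⊗[k] V),
      act B (g * h) x = act B g (act B h x) := by
    intro B _ _ g h x
    obtain ⟨B₁, _, _, ψ, g', hψ, hg⟩ := exists_lift_cover q g
    obtain ⟨B₂, _, _, ψ₂, h', hψ₂, hh⟩ := exists_lift_cover q (VecGrp.ptMap ψ ≫ h)
    refine Wmap_injective ψ hψ V (Wmap_injective ψ₂ hψ₂ V ?_)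
    rw [hnat ψ, hnat ψ₂, hnat ψ, hnat ψ₂, hnat ψ, hnat ψ₂, MonObj.comp_mul, MonObj.comp_mul, ← hg, ← hh,
      ← Category.assoc, ← MonObj.mul_comp, hkey, hkey, hkey, map_mul, LinearEquiv.mul_apply]
  refine ⟨⟨fun B _ _ => MonoidHom.mk' (fun g =>
      LinearEquiv.ofLinearMap (act B g) (act B g⁻¹)
        (LinearMap.ext fun x => by
          show act B g (act B g⁻¹ x) = x
          rw [← hmul, mul_inv_cancel, hone])
        (LinearMap.ext fun x => by
          show act B g⁻¹ (act B g x) = x
          rw [← hmul, inv_mul_cancel, hone]))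
      fun g h => LinearEquiv.ext fun x => hmul B g h x, fun ψ g x => hnat ψ g x⟩, fun B _ _ g x => hkey B g x⟩

end Groth.L16.FinGen
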