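import Groth.Agent.L16.FinGen.Tools

/-!
# An algebra with finitely generated invariants of a maximal unipotent subgroup is finitely generated
-/

set_option autoImplicit false
set_option backward.isDefEq.respectTransparency.types false
set_option linter.unusedSectionVars false
set_option linter.style.haveILetI false
set_option maxHeartbeats 1600000

universe u

open CategoryTheory MonoidalCategory CartesianMonoidalCategory MonObj AlgebraicGeometry
open scoped TensorProduct
open Groth.L25.Observable Groth.L16.Weights WithConv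

noncomputable section

namespace Groth.L16.FinGen

variable {k : Type u} [Field k] [IsAlgClosed k]

/-- Functions with values in an algebra that vanish on a dense set of points vanish. -/
theorem eq_zero_of_evals {G : Over (Spec (CommRingCat.of k))} {O : Type u} [CommRing O] [HopfAlgebra k O]
    (ψ : G ⟶ Sp k O) (C : Subalgebra k O) {W : Type u} [CommRing W] [Algebra k W]
    (P : Set (VecGrp.pt k k ⟶ G)) (hP : ∀ a : O, (∀ x ∈ P, (ev ψ x).ofConv a = 0) → a = 0)
    (E : (VecGrp.pt k k ⟶ G) → (C ⊗[k] W →ₐ[k] W))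
    (hE : ∀ x (c : C) (w : W), E x (c ⊗ₜ[k] w) = (ev ψ x).ofConv (c : O) • w)
    {r : C ⊗[k] W} (hr : ∀ x ∈ P, E x r = 0) : r = 0 := by
  let b := Module.Free.chooseBasis k W
  let bC := b.baseChange C
  refine bC.repr.injective (Finsupp.ext fun j => Subtype.ext (hP _ fun x hx => ?_))
  have key : ∀ r : C ⊗[k] W, b.repr (E x r) j = (ev ψ x).ofConv ((bC.repr r j : C) : O) := by
    intro r
    induction r using TensorProduct.induction_on with
    | zero => simp
    | add p q hp hq => simp only [map_add, Finsupp.add_apply, Subalgebra.coe_add, hp, hq]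
    | tmul c w =>
      rw [hE, map_smul, Finsupp.smul_apply, Module.Basis.baseChange_repr_tmul]
      simp [mul_comm]
  show (ev ψ x).ofConv ((bC.repr r j : C) : O) = 0
  rw [← key, hr x hx]
  simp

/-- A subalgebra over which a finitely generated algebra is integral is finitely generated. -/
theorem fg_of_integral {R : Type u} [CommRing R] [Algebra k R] [Algebra.FiniteType k R] (S : Subalgebra k R)
    (h : ∀ r : R, IsIntegral S r) : S.FG := by
  haveI : Algebra.IsIntegral S R := ⟨h⟩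
  haveI : Algebra.FiniteType S R := Algebra.FiniteType.of_restrictScalars_finiteType k S R
  haveI : Module.Finite S R := Algebra.IsIntegral.finite
  exact (Subalgebra.fg_top S).1
    (fg_of_fg_of_fg k S R (Algebra.FiniteType.out) Module.Finite.fg_top Subtype.val_injective)

variable {G U T U' : Over (Spec (CommRingCat.of k))} [GrpObj G] [GrpObj U] [GrpObj T] [GrpObj U']
  [IsAffine G.left] [Smooth G.hom] [IsAffine U.left] [Smooth U.hom] [ConnectedSpace U.left]
  [IsAffine T.left] [Smooth T.hom] [IsAffine U'.left] [Smooth U'.hom]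
  (iU : U ⟶ G) [IsMonHom iU] (iT : T ⟶ G) [IsMonHom iT] (iU' : U' ⟶ G) [IsMonHom iU'] (L : Cochar T)

/-- An algebra with finitely generated invariants of the unipotent radical is finitely generated. -/
theorem finiteType_of_fixed (hns : Red.HasNoSubtorus k U)
    (hfin : ∀ (R : Type u) [CommRing R] [Algebra k R] [Algebra.FiniteType k R] (ρ : VecGrp.GMod G R) (hρ : ρ.IsMult),
      Algebra.FiniteType k ↥(ρ.fixedSubalgebra hρ iU))
    (hfin' : ∀ (R : Type u) [CommRing R] [Algebra k R] [Algebra.FiniteType k R] (ρ : VecGrp.GMod G R) (hρ : ρ.IsMult),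
      Algebra.FiniteType k ↥(ρ.fixedSubalgebra hρ iU'))
    (thmA : VecGrp.ReductiveInvariantsFG k) (hTr : VecGrp.IsReductiveGrp k T)
    (hcomm : ∀ (X : Over (Spec (CommRingCat.of k))) (a b : X ⟶ T), a * b = b * a)
    (ha : Attracts (L.map iT) iU) (ha' : Attracts (L.map iT).neg iU') (hd : Dense iU' iT iU)
    (hnorm : ∀ (t : VecGrp.pt k k ⟶ T) (x : VecGrp.pt k k ⟶ U), ∃ y : VecGrp.pt k k ⟶ U,
      (t ≫ iT) * (x ≫ iU) * (t ≫ iT)⁻¹ = y ≫ iU)
    (hnorm' : ∀ (t : VecGrp.pt k k ⟶ T) (x : VecGrp.pt k k ⟶ U'), ∃ y : VecGrp.pt k k ⟶ U',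
      (t ≫ iT) * (x ≫ iU') * (t ≫ iT)⁻¹ = y ≫ iU')
    {A : Type u} [CommRing A] [Algebra k A] (ρ : VecGrp.GMod G A) (hρ : ρ.IsMult)
    (hpos : ∀ (n : ℤ) (w : A), w ∈ part L (comap ρ iT) n → w ∈ ρ.fixedUnder iU → w ≠ 0 → 0 ≤ n)
    (hA : Algebra.FiniteType k ↥(ρ.fixedSubalgebra hρ iU)) : Algebra.FiniteType k A := by
  classical
  obtain ⟨O, _, _, ψ, hOft, hOred, hψm, hψi⟩ := exists_chart (k := k) G
  haveI := hOft; haveI := hOred; haveI := hψm; haveI := hψi
  obtain ⟨mr, hmr, hmrpt⟩ := exists_regular ψ (𝟙 G)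
  have hRt : ∀ (g x : VecGrp.pt k k ⟶ G) (a : O), (ev ψ x).ofConv (ptAct mr g a) = (ev ψ (x * g)).ofConv a :=
    fun g x a => by rw [ptAct_eq mr g a _ (hmrpt g a), Category.comp_id, apply_Rt, ← ev_mul]
  obtain ⟨ml, hml, hLt⟩ := exists_left_regular ψ
  -- functions invariant on the right under the opposite subgroup
  let C : Subalgebra k O := mr.fixedSubalgebra hmr iU'
  haveI hC : Algebra.FiniteType k C := hfin' O mr hmr
  have hCinv : ∀ (c : O), c ∈ C → ∀ (x : VecGrp.pt k k ⟶ G) (y : VecGrp.pt k k ⟶ U'),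
      (ev ψ (x * (y ≫ iU'))).ofConv c = (ev ψ x).ofConv c := fun c hc x y => by
    rw [← hRt, ptAct_of_fixed mr iU' hc y]
  have hCmem : ∀ c : O, (∀ (x : VecGrp.pt k k ⟶ G) (y : VecGrp.pt k k ⟶ U'),
      (ev ψ (x * (y ≫ iU'))).ofConv c = (ev ψ x).ofConv c) → c ∈ C := fun c h =>
    mem_fixedUnder_of_ptAct mr iU' fun y => eq_of_forall_ev ψ fun x => by rw [hRt, h]
  -- the invariants
  let AU : Subalgebra k A := ρ.fixedSubalgebra hρ iU
  haveI hAU : Algebra.FiniteType k AU := hA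
  obtain ⟨mCT, hmCT, hCT⟩ := exists_restrict_pts (comap mr iT) (fun B _ _ g => hmr B (g ≫ iT)) C
    (fun t c hc => ptAct_mem_fixed mr iU' iT hnorm' t hc)
  obtain ⟨mAT, hmAT, hAT⟩ := exists_restrict_pts (comap ρ iT) (fun B _ _ g => hρ B (g ≫ iT)) AU
    (fun t c hc => ptAct_mem_fixed ρ iU iT hnorm t hc)
  obtain ⟨τ, hτ, hτgen⟩ := exists_tensor_pts mCT hmCT mAT hmAT
  let R := τ.fixedSubalgebra hτ (𝟙 T)
  haveI : Algebra.FiniteType k (C ⊗[k] AU) := Algebra.FiniteType.trans (S := C) hC inferInstance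
  haveI hR : Algebra.FiniteType k R := by
    obtain ⟨s, hs, hle⟩ := thmA T hTr (C ⊗[k] AU) τ hτ inferInstance
    refine (Subalgebra.fg_iff_finiteType R).1 ⟨s, le_antisymm (Algebra.adjoin_le fun x hx => hs hx) fun x hx => hle hx⟩
  -- evaluation
  let E : (VecGrp.pt k k ⟶ G) → (C ⊗[k] AU →ₐ[k] AU) := fun x =>
    Algebra.TensorProduct.lift ((Algebra.ofId k AU).comp ((ev ψ x).ofConv.comp C.val)) (AlgHom.id k AU)
      fun _ _ => Commute.all _ _
  have hE : ∀ x (c : C) (w : AU), E x (c ⊗ₜ[k] w) = (ev ψ x).ofConv (c : O) • w := fun x c w => by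
    simp [E, Algebra.ofId_apply, Algebra.smul_def]
  have hinj : ∀ r : C ⊗[k] AU, (∀ x, E x r = 0) → r = 0 := fun r hr =>
    eq_zero_of_evals ψ C Set.univ (fun a h => eq_of_forall_ev ψ fun x => by rw [h x trivial, map_zero]) E hE
      fun x _ => hr x
  have hinjd : ∀ r : C ⊗[k] AU, (∀ (y : VecGrp.pt k k ⟶ U) (t : VecGrp.pt k k ⟶ T) (z : VecGrp.pt k k ⟶ U'),
      E ((y ≫ iU) * (t ≫ iT) * (z ≫ iU')) r = 0) → r = 0 := fun r hr => by
    refine eq_zero_of_evals ψ C {p | ∃ y t z, p = (y ≫ iU) * (t ≫ iT) * (z ≫ iU')} (fun a h => ?_) E hE ?_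
    · have h0 : HopfAlgebra.antipodeAlgHom k O a = 0 := by
        refine fn_injective ψ ((hd _ fun x t y => ?_).trans ?_)
        · rw [val_fn, ← ev_inv]
          refine h _ ⟨y⁻¹, t⁻¹, x⁻¹, ?_⟩
          rw [_root_.mul_inv_rev, _root_.mul_inv_rev, GrpObj.inv_comp, GrpObj.inv_comp, GrpObj.inv_comp,
            _root_.mul_assoc]
        · exact (map_zero (fnHom ψ)).symm
      refine eq_of_forall_ev ψ fun x => ?_
      rw [← _root_.inv_inv x, ev_inv, h0, map_zero, map_zero]
    · rintro _ ⟨y, t, z, rfl⟩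
      exact hr y t z
  have hET : ∀ (t : VecGrp.pt k k ⟶ T) (x : VecGrp.pt k k ⟶ G) (r : C ⊗[k] AU),
      E x (ptAct τ t r) = ptAct mAT t (E (x * (t ≫ iT)) r) := by
    intro t x r
    induction r using TensorProduct.induction_on with
    | zero => simp
    | add p q hp hq => simp only [map_add, hp, hq]
    | tmul c w => rw [hτgen, hE, hE, map_smul, hCT, ptAct_comap, hRt]
  have hRmem : ∀ r : C ⊗[k] AU, (∀ (t : VecGrp.pt k k ⟶ T) x, ptAct mAT t (E (x * (t ≫ iT)) r) = E x r) → r ∈ R :=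
    fun r h => mem_fixedUnder_of_ptAct τ (𝟙 T) fun t => sub_eq_zero.1 (hinj _ fun x => by
      rw [Category.comp_id, map_sub, hET, h, sub_self])
  have hRinv : ∀ r ∈ R, ∀ (t : VecGrp.pt k k ⟶ T) x, ptAct mAT t (E (x * (t ≫ iT)) r) = E x r := by
    intro r hr t x
    have h := ptAct_of_fixed τ (𝟙 T) hr t
    rw [Category.comp_id] at h
    rw [← hET, h]
  -- the action by left translations
  obtain ⟨mC, hmC, hCG⟩ := exists_restrict_pts ml hml C fun g c hc => hCmem _ fun x y => by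
    rw [hLt, hLt, ← _root_.mul_assoc, hCinv c hc]
  obtain ⟨γ, hγ, hγgen⟩ := exists_tensor_pts mC hmC (VecGrp.GMod.trivial G AU) trivial_isMult
  have hEG : ∀ (g x : VecGrp.pt k k ⟶ G) (r : C ⊗[k] AU), E x (ptAct γ g r) = E (g⁻¹ * x) r := by
    intro g x r
    induction r using TensorProduct.induction_on with
    | zero => simp
    | add p q hp hq => simp only [map_add, hp, hq]
    | tmul c w => rw [hγgen, hE, hE, ptAct_trivial, hCG, hLt]
  obtain ⟨ρR, hρR, hRG⟩ := exists_restrict_pts γ hγ R fun g r hr => hRmem _ fun t x => by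
    rw [hEG, hEG, ← _root_.mul_assoc, hRinv r hr]
  -- the functions of filtered vectors
  let F : ℤ → Submodule k A := filt ρ iT L
  let P : R → ℤ → A → Prop := fun r n v => v ∈ F n ∧
    ∀ x, (E x (r : C ⊗[k] AU) : A) = deg ρ iT L n (ptAct ρ x⁻¹ v)
  obtain ⟨π, hπ⟩ := LinearMap.exists_leftInverse_of_injective (Subalgebra.val AU).toLinearMap
    (LinearMap.ker_eq_bot.2 Subtype.val_injective)
  have hπ' : ∀ a : AU, π (a : A) = a := fun a => LinearMap.congr_fun hπ a
  have hdeg : ∀ (n : ℤ) (v : A), v ∈ F n → deg ρ iT L n v ∈ AU := fun n v hv =>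
    deg_mem_fixed ρ iT L iU ha hv
  obtain ⟨γ₀, hγ₀⟩ := ev_surjective ψ (toConv (AlgHom.id k O))
  have hptm : ∀ x : VecGrp.pt k k ⟶ G, VecGrp.ptMap (ev ψ x).ofConv ≫ γ₀ = x := fun x => by
    refine ev_injective ψ (congrArg toConv (AlgHom.ext fun b => ?_))
    show (ev ψ (VecGrp.ptMap (ev ψ x).ofConv ≫ γ₀)).ofConv b = _
    rw [← val_fn, val_ptMap, val_fn, hγ₀]
    rfl
  have hPex : ∀ (n : ℤ) (v : A), v ∈ F n → ∃ r : R, P r n v := by
    intro n v hv
    let b := Module.Free.chooseBasis k AU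
    let π' : A →ₗ[k] AU := π.comp (deg ρ iT L n)
    let w := (b.baseChange O).repr (π'.baseChange O (ρ.ρ O γ₀⁻¹ ((1 : O) ⊗ₜ[k] v)))
    have hw : ∀ x j, (ev ψ x).ofConv (w j) = b.repr (π' (ptAct ρ x⁻¹ v)) j := by
      intro x j
      have key : ∀ z : O ⊗[k] A, (ev ψ x).ofConv ((b.baseChange O).repr (π'.baseChange O z) j) =
          b.repr (π' (TensorProduct.lid k A (VecGrp.Wmap (ev ψ x).ofConv z))) j := by
        intro z
        induction z using TensorProduct.induction_on with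
        | zero => simp
        | add p q hp hq => simp only [map_add, Finsupp.add_apply, hp, hq]
        | tmul c a => simp [VecGrp.Wmap, mul_comm]
      refine (key _).trans ?_
      rw [ρ.naturality, GrpObj.comp_inv, hptm, VecGrp.Wmap_tmul, map_one]
      rfl
    have hwC : ∀ j, w j ∈ C := fun j => hCmem _ fun x y => by
      rw [hw, hw]
      show b.repr (π (deg ρ iT L n _)) j = b.repr (π (deg ρ iT L n _)) j
      rw [_root_.mul_inv_rev, ← GrpObj.inv_comp, ptAct_mul,
        deg_opposite_of_filt ρ iT L iU' ha' (ptAct_mem_filt ρ iT L hv x⁻¹) y⁻¹]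
    let r : C ⊗[k] AU := ∑ j ∈ w.support, (⟨w j, hwC j⟩ : C) ⊗ₜ[k] b j
    have hr : ∀ x, (E x r : A) = deg ρ iT L n (ptAct ρ x⁻¹ v) := by
      intro x
      have h1 : E x r = π' (ptAct ρ x⁻¹ v) := by
        refine b.repr.injective (Finsupp.ext fun l => ?_)
        simp only [r, map_sum, hE, map_smul, Module.Basis.repr_self, Finsupp.smul_single, smul_eq_mul,
          _root_.mul_one, Finset.sum_apply', ← hw x l]
        by_cases hl : l ∈ w.support
        · rw [Finset.sum_eq_single_of_mem l hl fun j _ hj => Finsupp.single_eq_of_ne' hj]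
          simp
        · rw [Finset.sum_eq_zero fun j hj => Finsupp.single_eq_of_ne' fun e => hl (by rw [← e]; exact hj),
            Finsupp.notMem_support_iff.1 hl, map_zero]
      rw [h1]
      exact congrArg Subtype.val (hπ' ⟨_, hdeg n _ (ptAct_mem_filt ρ iT L hv x⁻¹)⟩)
    refine ⟨⟨r, hRmem r fun t x => Subtype.ext ?_⟩, hv, hr⟩
    rw [hAT, hr, hr, ← proj_ptAct_torus hcomm, ptAct_comap, ← ptAct_mul, _root_.mul_inv_rev, mul_inv_cancel_left]
  have hinjR : ∀ r r' : R, (∀ x, (E x (r : C ⊗[k] AU) : A) = E x (r' : C ⊗[k] AU)) → r = r' := fun r r' h =>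
    Subtype.ext (sub_eq_zero.1 (hinj _ fun x => by rw [map_sub, sub_eq_zero]; exact Subtype.ext (h x)))
  let S : Subalgebra k R := Algebra.adjoin k {r | ∃ n v, P r n v}
  -- the ring of equivariant functions is integral over the span of these functions
  have hS : ∀ r ∈ ρR.fixedUnder iU, ∀ g : VecGrp.pt k k ⟶ G, ptAct ρR g r ∈ S := by
    intro r hr g
    let a : A := (E 1 (r : C ⊗[k] AU) : A)
    have haf : a ∈ ρ.fixedUnder iU := (E 1 (r : C ⊗[k] AU)).2
    obtain ⟨N, hN, -⟩ := exists_support L (comap ρ iT) a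
    have han : ∀ n, deg ρ iT L n a ∈ F n ∧ deg ρ iT L n a ∈ ρ.fixedUnder iU := fun n => by
      have h2 : deg ρ iT L n a ∈ ρ.fixedUnder iU :=
        proj_mem_of_pts L (comap ρ iT) (fun t v hv => ptAct_mem_fixed ρ iU iT hnorm t hv) haf n
      exact ⟨mem_filt_of_fixed ρ iT L iU iU' ha' hd hcomm (proj_mem L _ n a) h2, h2⟩
    choose z hz using fun n => hPex n _ (han n).1
    have hU : ∀ (q : R) (y : VecGrp.pt k k ⟶ U) x, q ∈ ρR.fixedUnder iU →
        E ((y ≫ iU) * x) (q : C ⊗[k] AU) = E x (q : C ⊗[k] AU) := by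
      intro q y x hq
      have h := congrArg (fun s : R => E x (s : C ⊗[k] AU)) (ptAct_of_fixed ρR iU hq y⁻¹)
      rwa [hRG, hEG, GrpObj.inv_comp, _root_.inv_inv] at h
    have hzU : ∀ n, z n ∈ ρR.fixedUnder iU := fun n => mem_fixedUnder_of_ptAct ρR iU fun y => hinjR _ _ fun x => by
      rw [hRG, hEG, (hz n).2, (hz n).2, _root_.mul_inv_rev, _root_.inv_inv, ptAct_mul,
        ptAct_of_fixed ρ iU (han n).2 y]
    have hr' : r = ∑ n ∈ N, z n := by
      refine sub_eq_zero.1 (Subtype.ext (hinjd _ fun y t x => ?_))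
      have hfix : r - ∑ n ∈ N, z n ∈ ρR.fixedUnder iU := sub_mem hr (sum_mem fun n _ => hzU n)
      have h1 : E 1 ((r - ∑ n ∈ N, z n : R) : C ⊗[k] AU) = 0 := by
        refine Subtype.ext ?_
        simp only [AddSubgroupClass.coe_sub, AddSubmonoidClass.coe_finsetSum, map_sub, map_sum, (hz _).2, inv_one,
          ptAct_one]
        rw [ZeroMemClass.coe_zero, sub_eq_zero]
        refine Eq.trans (sum_proj L (comap ρ iT) hN).symm (Finset.sum_congr rfl fun n _ => ?_)
        show _ = deg ρ iT L n (deg ρ iT L n a)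
        rw [deg, proj_proj, if_pos rfl]
      have hC' : ∀ (q : C ⊗[k] AU) p, E (p * (x ≫ iU')) q = E p q := by
        intro q p
        induction q using TensorProduct.induction_on with
        | zero => simp
        | add p q hp hq => simp only [map_add, hp, hq]
        | tmul c w => rw [hE, hE, hCinv _ c.2]
      rw [_root_.mul_assoc, hU _ _ _ hfix, hC']
      have h2 := hRinv _ (r - ∑ n ∈ N, z n).2 t 1
      rw [_root_.one_mul, h1] at h2
      have h3 := congrArg (ptAct mAT t⁻¹) h2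
      rwa [← ptAct_mul, inv_mul_cancel, ptAct_one, map_zero] at h3
    rw [hr', map_sum]
    refine sum_mem fun n _ => Algebra.subset_adjoin ⟨n, ptAct ρ g (deg ρ iT L n a),
      ptAct_mem_filt ρ iT L (han n).1 g, fun x => ?_⟩
    rw [hRG, hEG, (hz n).2, _root_.mul_inv_rev, _root_.inv_inv, ptAct_mul]
  have hSfg : S.FG :=
    fg_of_integral S fun r => Groth.L16.GeomRed.isIntegral_over iU hns hfin ρR hρR S hS r
  obtain ⟨gen, hgen⟩ := hSfg
  choose Fs hFs hFs' using fun x : gen => exists_finset_mem_adjoin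
    (S := {r : R | ∃ n v, P r n v}) (x := (x : R)) (hgen.le (Algebra.subset_adjoin x.2))
  let s₀ : Finset R := gen.attach.biUnion Fs
  have hs₀ : ∀ r ∈ s₀, ∃ n v, P r n v := fun r hr => by
    obtain ⟨x, -, hx⟩ := Finset.mem_biUnion.1 hr
    exact hFs x hx
  have hSle : S ≤ Algebra.adjoin k (s₀ : Set R) := by
    rw [← hgen]
    refine Algebra.adjoin_le fun x hx => ?_
    exact Algebra.adjoin_mono (Finset.coe_subset.2
      (Finset.subset_biUnion_of_mem Fs (Finset.mem_attach gen ⟨x, hx⟩))) (hFs' ⟨x, hx⟩)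
  choose n₀ v₀ h₀ using fun r : s₀ => hs₀ r r.2
  let A₀ : Subalgebra k A := Algebra.adjoin k ((s₀.attach.image v₀ : Finset A) : Set A)
  have hmon : ∀ r : R, r ∈ Submonoid.closure (s₀ : Set R) → ∃ n v, v ∈ A₀ ∧ P r n v := by
    intro r hr
    induction hr using Submonoid.closure_induction with
    | mem x hx =>
      exact ⟨n₀ ⟨x, hx⟩, v₀ ⟨x, hx⟩,
        Algebra.subset_adjoin (Finset.mem_coe.2 (Finset.mem_image_of_mem _ (Finset.mem_attach _ _))), h₀ ⟨x, hx⟩⟩
    | one =>
      refine ⟨0, 1, one_mem _, one_mem_filt ρ hρ iT L, fun x => ?_⟩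
      rw [deg_one ρ hρ iT L x⁻¹, OneMemClass.coe_one, map_one, OneMemClass.coe_one]
    | mul x y _ _ hx hy =>
      obtain ⟨n, v, hv, hx1, hx2⟩ := hx
      obtain ⟨m, w, hw, hy1, hy2⟩ := hy
      refine ⟨n + m, v * w, mul_mem hv hw, mul_mem_filt ρ hρ iT L hx1 hy1, fun p => ?_⟩
      rw [deg_mul ρ hρ iT L hx1 hy1 p⁻¹, ← hx2, ← hy2, MulMemClass.coe_mul, map_mul, MulMemClass.coe_mul]
  have hspan : ∀ r : R, r ∈ Algebra.adjoin k (s₀ : Set R) → ∀ n, ∃ a ∈ A₀, a ∈ F n ∧
      ∀ x, deg ρ iT L n (E x (r : C ⊗[k] AU) : A) = deg ρ iT L n (ptAct ρ x⁻¹ a) := by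
    intro r hr n
    rw [← Subalgebra.mem_toSubmodule, Algebra.adjoin_eq_span] at hr
    induction hr using Submodule.span_induction with
    | mem x hx =>
      obtain ⟨m, v, hv, hx1, hx2⟩ := hmon x hx
      by_cases hmn : m = n
      · subst hmn
        exact ⟨v, hv, hx1, fun p => by rw [hx2, deg, proj_proj, if_pos rfl]⟩
      · exact ⟨0, zero_mem _, zero_mem _, fun p => by rw [hx2, deg, proj_proj, if_neg hmn, map_zero, map_zero]⟩
    | zero => exact ⟨0, zero_mem _, zero_mem _, fun p => by simp⟩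
    | add x y _ _ hx hy =>
      obtain ⟨a, ha0, ha1, ha2⟩ := hx
      obtain ⟨b, hb0, hb1, hb2⟩ := hy
      refine ⟨a + b, add_mem ha0 hb0, add_mem ha1 hb1, fun p => ?_⟩
      rw [AddMemClass.coe_add, map_add, AddMemClass.coe_add, map_add, ha2, hb2, map_add, map_add]
    | smul c x _ hx =>
      obtain ⟨a, ha0, ha1, ha2⟩ := hx
      refine ⟨c • a, A₀.smul_mem ha0 c, Submodule.smul_mem _ c ha1, fun p => ?_⟩
      rw [Subalgebra.coe_smul, map_smul, Subalgebra.coe_smul, map_smul, ha2, map_smul, map_smul]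
  have hmain : ∀ (N : ℕ) (v : A), v ∈ F ((N : ℤ) - 1) → v ∈ A₀ := by
    intro N
    induction N with
    | zero =>
      intro v hv
      rw [show F ((0 : ℕ) - 1 : ℤ) = ⊥ from filt_eq_bot ρ iT L iU ha hpos (by norm_num)] at hv
      rw [(Submodule.mem_bot k).1 hv]
      exact zero_mem _
    | succ N ih =>
      intro v hv
      rw [Nat.cast_succ, add_sub_cancel_right] at hv
      obtain ⟨r, hr⟩ := hPex N v hv
      obtain ⟨a, ha0, ha1, ha2⟩ := hspan r (hSle (Algebra.subset_adjoin ⟨N, v, hr⟩)) N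
      have h : v - a ∈ F ((N : ℤ) - 1) := mem_filt_pred ρ iT L (sub_mem hv ha1) fun g => by
        have h1 := ha2 g⁻¹
        rw [hr.2, deg, proj_proj, if_pos rfl, _root_.inv_inv] at h1
        rw [map_sub, map_sub, sub_eq_zero]
        exact h1
      simpa using add_mem (ih _ h) ha0
  refine ⟨⟨s₀.attach.image v₀, eq_top_iff.2 fun v _ => ?_⟩⟩
  obtain ⟨n, hn⟩ := exists_mem_filt ρ iT L v
  exact hmain (n + 1).toNat v (filt_mono ρ iT L (by omega) hn)

end Groth.L16.FinGen
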