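import Groth.Prelude.Def_W4bk4grossh1223Act
import Mathlib.Algebra.TrivSqZeroExt.Basic
import Mathlib.LinearAlgebra.TensorProduct.Prod
import Mathlib.RingTheory.FiniteType

/-!
# Finiteness of a module from its invariants, by idealisation
-/

set_option autoImplicit false
set_option maxHeartbeats 800000

universe u

open CategoryTheory MonObj AlgebraicGeometry
open scoped TensorProduct

noncomputable section

namespace Groth.L16.FinGen

variable {k : Type u} [Field k] {G : Over (Spec (CommRingCat.of k))} [GrpObj G]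
  {A : Type u} [CommRing A] [Algebra k A] (ρA : VecGrp.GMod G A)
  {M : Type u} [AddCommGroup M] [Module A M] [Module k M] [IsScalarTower k A M] (ρM : VecGrp.GMod G M)

theorem module_finite_of_fixed {H : Over (Spec (CommRingCat.of k))} [GrpObj H] (i : H ⟶ G)
    (hlift : ∀ (R : Type u) [CommRing R] [Algebra k R] (ρ : VecGrp.GMod G R) (hρ : ρ.IsMult),
      Algebra.FiniteType k ↥(ρ.fixedSubalgebra hρ i) → Algebra.FiniteType k R)
    (hρ : ρA.IsMult) (hc : VecGrp.GMod.IsCompat ρA ρM) (hA : Algebra.FiniteType k ↥(ρA.fixedSubalgebra hρ i))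
    (s₀ : Finset M) (hs₀ : (↑s₀ : Set M) ⊆ ρM.fixedUnder i)
    (hle₀ : ρM.fixedUnder i ≤ (Submodule.span ↥(ρA.fixedSubalgebra hρ i) (↑s₀ : Set M)).restrictScalars k) :
    Module.Finite A M := by
  classical
  letI : Module Aᵐᵒᵖ M := Module.compHom M ((RingHom.id A).fromOpposite mul_comm)
  haveI : IsCentralScalar A M := ⟨fun a m => rfl⟩
  haveI : IsScalarTower k Aᵐᵒᵖ M := ⟨fun c a m => by
    show ((c • a).unop) • m = c • (a.unop • m)
    rw [MulOpposite.unop_smul, smul_assoc]⟩
  let toProd : (TrivSqZeroExt A M) ≃ₗ[k] A × M :=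
    { toFun := fun x => (x.fst, x.snd)
      invFun := fun p => TrivSqZeroExt.inl p.1 + TrivSqZeroExt.inr p.2
      map_add' := fun x y => rfl
      map_smul' := fun c x => rfl
      left_inv := fun x => TrivSqZeroExt.inl_fst_add_inr_snd_eq x
      right_inv := fun p => by simp }
  let E : ∀ (B : Type u) [CommRing B] [Algebra k B], B ⊗[k] (TrivSqZeroExt A M) ≃ₗ[B] (B ⊗[k] A) × (B ⊗[k] M) := fun B _ _ =>
    (toProd.baseChange k B (TrivSqZeroExt A M) (A × M)) ≪≫ₗ TensorProduct.prodRight k B B A M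
  have hE : ∀ (B : Type u) [CommRing B] [Algebra k B] (b : B) (x : (TrivSqZeroExt A M)),
      E B (b ⊗ₜ x) = (b ⊗ₜ[k] x.fst, b ⊗ₜ[k] x.snd) := fun B _ _ b x => rfl
  have hEmul : ∀ (B : Type u) [CommRing B] [Algebra k B] (x y : B ⊗[k] (TrivSqZeroExt A M)), E B (x * y) =
      ((E B x).1 * (E B y).1, VecGrp.GMod.smulW k A M B (E B x).1 (E B y).2 +
        VecGrp.GMod.smulW k A M B (E B y).1 (E B x).2) := by
    intro B _ _ x y
    induction x using TensorProduct.induction_on with
    | zero => simp [Prod.ext_iff]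
    | add p q hp hq =>
      rw [add_mul, map_add, hp, hq, map_add, Prod.fst_add, Prod.snd_add, add_mul, map_add, map_add,
        LinearMap.add_apply, Prod.mk_add_mk, add_add_add_comm]
    | tmul b x =>
      induction y using TensorProduct.induction_on with
      | zero => simp [Prod.ext_iff]
      | add p q hp hq =>
        rw [mul_add, map_add, hp, hq, map_add, Prod.fst_add, Prod.snd_add, mul_add, map_add, map_add,
          LinearMap.add_apply, Prod.mk_add_mk, add_add_add_comm]
      | tmul c y =>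
        rw [Algebra.TensorProduct.tmul_mul_tmul, hE, hE, hE]
        refine Prod.ext (by simp [TrivSqZeroExt.fst_mul]) ?_
        show (b * c) ⊗ₜ[k] (x * y).snd = _
        simp only [VecGrp.GMod.smulW, TensorProduct.map₂_apply_tmul, LinearMap.mul_apply', AlgHom.toLinearMap_apply,
          Algebra.lsmul_coe, TrivSqZeroExt.snd_mul, TensorProduct.tmul_add]
        simp [mul_comm c b]
  have hEmap : ∀ {B B' : Type u} [CommRing B] [Algebra k B] [CommRing B'] [Algebra k B'] (φ : B →ₐ[k] B')
      (x : B ⊗[k] (TrivSqZeroExt A M)), E B' (VecGrp.Wmap φ x) = (VecGrp.Wmap φ (E B x).1, VecGrp.Wmap φ (E B x).2) := by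
    intro B B' _ _ _ _ φ x
    induction x using TensorProduct.induction_on with
    | zero => simp [Prod.ext_iff]
    | add p q hp hq => simp only [map_add, hp, hq, Prod.fst_add, Prod.snd_add, Prod.mk_add_mk]
    | tmul b x => simp [hE, VecGrp.Wmap]
  let ρ : VecGrp.GMod G (TrivSqZeroExt A M) :=
    { ρ := fun B _ _ =>
        { toFun := fun g => (E B) ≪≫ₗ ((ρA.ρ B g).prodCongr (ρM.ρ B g)) ≪≫ₗ (E B).symm
          map_one' := LinearEquiv.ext fun x => by simp
          map_mul' := fun g g' => LinearEquiv.ext fun x => by simp }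
      naturality := fun {B B'} _ _ _ _ φ g x => by
        apply (E B').injective
        show E B' (VecGrp.Wmap φ ((E B).symm ((ρA.ρ B g (E B x).1), ρM.ρ B g (E B x).2))) =
          E B' ((E B').symm (ρA.ρ B' (VecGrp.ptMap φ ≫ g) (E B' (VecGrp.Wmap φ x)).1,
            ρM.ρ B' (VecGrp.ptMap φ ≫ g) (E B' (VecGrp.Wmap φ x)).2))
        rw [hEmap, LinearEquiv.apply_symm_apply, LinearEquiv.apply_symm_apply, hEmap, ρA.naturality, ρM.naturality] }
  have hρR : ρ.IsMult := by
    intro B _ _ g
    refine ⟨fun x y => ?_, ?_⟩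
    · apply (E B).injective
      show E B ((E B).symm (ρA.ρ B g (E B (x * y)).1, ρM.ρ B g (E B (x * y)).2)) =
        E B ((E B).symm (ρA.ρ B g (E B x).1, ρM.ρ B g (E B x).2) * (E B).symm (ρA.ρ B g (E B y).1, ρM.ρ B g (E B y).2))
      rw [hEmul, hEmul, LinearEquiv.apply_symm_apply, LinearEquiv.apply_symm_apply, LinearEquiv.apply_symm_apply,
        map_add, (hρ B g).1, hc, hc]
    · apply (E B).injective
      show E B ((E B).symm (ρA.ρ B g (E B 1).1, ρM.ρ B g (E B 1).2)) = E B 1
      rw [LinearEquiv.apply_symm_apply, Algebra.TensorProduct.one_def, hE]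
      simp only [TrivSqZeroExt.fst_one, TrivSqZeroExt.snd_one, TensorProduct.tmul_zero, map_zero]
      rw [← Algebra.TensorProduct.one_def, (hρ B g).2]
  have hfix : ∀ x : (TrivSqZeroExt A M), x ∈ ρ.fixedUnder i ↔ x.fst ∈ ρA.fixedUnder i ∧ x.snd ∈ ρM.fixedUnder i := by
    intro x
    have e : ∀ (B : Type u) [CommRing B] [Algebra k B] (g : VecGrp.pt k B ⟶ H),
        E B (ρ.ρ B (g ≫ i) ((1 : B) ⊗ₜ[k] x)) =
          (ρA.ρ B (g ≫ i) ((1 : B) ⊗ₜ[k] x.fst), ρM.ρ B (g ≫ i) ((1 : B) ⊗ₜ[k] x.snd)) := fun B _ _ g => by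
      show E B ((E B).symm _) = _
      rw [LinearEquiv.apply_symm_apply]
      rfl
    constructor
    · intro hx
      constructor <;> intro B _ _ g <;> have h := e B g <;> rw [hx B g, hE] at h
      · exact (congrArg Prod.fst h).symm
      · exact (congrArg Prod.snd h).symm
    · rintro ⟨h1, h2⟩ B _ _ g
      apply (E B).injective
      rw [e, h1 B g, h2 B g, hE]
  let R₀ := ρ.fixedSubalgebra hρR i
  let f : ↥(ρA.fixedSubalgebra hρ i) →ₐ[k] TrivSqZeroExt A M :=
    (TrivSqZeroExt.inlAlgHom k A M).comp (ρA.fixedSubalgebra hρ i).val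
  have hR₀ : R₀.FG := by
    obtain ⟨t, ht⟩ := hA.out
    refine ⟨t.image f ∪ s₀.image TrivSqZeroExt.inr, le_antisymm (Algebra.adjoin_le fun x hx => ?_) fun x hx => ?_⟩
    · rcases Finset.mem_union.1 (Finset.mem_coe.1 hx) with h | h
      · obtain ⟨y, -, rfl⟩ := Finset.mem_image.1 h
        refine (hfix _).2 ⟨?_, ?_⟩
        · show (TrivSqZeroExt.inl (y : A) : TrivSqZeroExt A M).fst ∈ _
          rw [TrivSqZeroExt.fst_inl]; exact y.2
        · show (TrivSqZeroExt.inl (y : A) : TrivSqZeroExt A M).snd ∈ _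
          rw [TrivSqZeroExt.snd_inl]; exact zero_mem _
      · obtain ⟨y, hy, rfl⟩ := Finset.mem_image.1 h
        refine (hfix _).2 ⟨?_, ?_⟩
        · rw [TrivSqZeroExt.fst_inr]; exact zero_mem _
        · rw [TrivSqZeroExt.snd_inr]; exact hs₀ hy
    · obtain ⟨h1, h2⟩ := (hfix x).1 hx
      let S := Algebra.adjoin k (↑(t.image f ∪ s₀.image TrivSqZeroExt.inr) : Set (TrivSqZeroExt A M))
      have hinl : ∀ a : ↥(ρA.fixedSubalgebra hρ i), f a ∈ S := fun a => by
        have hmem : a ∈ Algebra.adjoin k (t : Set ↥(ρA.fixedSubalgebra hρ i)) := ht ▸ Algebra.mem_top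
        have : f a ∈ (Algebra.adjoin k (t : Set ↥(ρA.fixedSubalgebra hρ i))).map f := ⟨a, hmem, rfl⟩
        rw [AlgHom.map_adjoin] at this
        refine Algebra.adjoin_mono ?_ this
        rw [Finset.coe_union, Finset.coe_image]
        exact Set.subset_union_left
      rw [← TrivSqZeroExt.inl_fst_add_inr_snd_eq x]
      refine S.add_mem (hinl ⟨_, h1⟩) ?_
      have h := hle₀ h2
      rw [Submodule.restrictScalars_mem] at h
      generalize x.snd = m at h
      induction h using Submodule.span_induction with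
      | mem y hy =>
        exact Algebra.subset_adjoin (Finset.mem_coe.2 (Finset.mem_union_right _ (Finset.mem_image_of_mem _ hy)))
      | zero => rw [TrivSqZeroExt.inr_zero]; exact S.zero_mem
      | add y z _ _ hy hz => rw [TrivSqZeroExt.inr_add]; exact S.add_mem hy hz
      | smul a y _ hy =>
        rw [show a • y = (a : A) • y from rfl, ← TrivSqZeroExt.inl_mul_inr]
        exact S.mul_mem (hinl a) hy
  obtain ⟨g, hg⟩ := (hlift _ ρ hρR ((Subalgebra.fg_iff_finiteType R₀).1 hR₀)).out
  refine ⟨⟨g.image TrivSqZeroExt.snd, eq_top_iff.2 fun m _ => ?_⟩⟩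
  let N := Submodule.span A (↑(g.image TrivSqZeroExt.snd) : Set M)
  have key : ∀ x ∈ Algebra.adjoin k (g : Set (TrivSqZeroExt A M)), x.snd ∈ N := by
    intro x hx
    induction hx using Algebra.adjoin_induction with
    | mem y hy => exact Submodule.subset_span (Finset.mem_coe.2 (Finset.mem_image_of_mem _ hy))
    | algebraMap r =>
      rw [show (algebraMap k (TrivSqZeroExt A M) r).snd = 0 from rfl]
      exact N.zero_mem
    | add y z _ _ hy hz => rw [TrivSqZeroExt.snd_add]; exact add_mem hy hz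
    | mul y z _ _ hy hz =>
      rw [TrivSqZeroExt.snd_mul, op_smul_eq_smul]
      exact add_mem (N.smul_mem _ hz) (N.smul_mem _ hy)
  have := key (TrivSqZeroExt.inr m) (hg ▸ Algebra.mem_top)
  rwa [TrivSqZeroExt.snd_inr] at this

end Groth.L16.FinGen
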