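import Groth.Agent.L16.FinGen.Assemble
import Groth.Agent.L16.FinGen.Descend
import Groth.Agent.L16.LeviAffine.Main
import Groth.Agent.L08.Borel.Borels
import Groth.Agent.L08.Borel.ImageTorus

/-!
# Invariants of the unipotent radical of a parabolic subgroup
-/

set_option autoImplicit false
set_option backward.isDefEq.respectTransparency.types false
set_option linter.unusedSectionVars false
set_option linter.style.haveILetI false
set_option maxHeartbeats 1600000

universe u

open CategoryTheory MonoidalCategory CartesianMonoidalCategory MonObj AlgebraicGeometry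
open Groth.L25.Observable Groth.L14.Luna Groth.L16.Weights
open scoped TensorProduct

noncomputable section

namespace Groth.L16.FinGen

variable {k : Type u} [Field k] [IsAlgClosed k]

/-- The invariants of the unipotent radical of a parabolic subgroup are finitely generated. -/
theorem finiteType_parabolic {G P H : Over (Spec (CommRingCat.of k))} [GrpObj G] [GrpObj P] [GrpObj H]
    (hG : VecGrp.IsReductiveGrp k G) {iP : P ⟶ G} (hP : Red.IsParabolicOver k iP) {h : H ⟶ P}
    (hH : Par.IsUnipotentRadical h) (thmA : VecGrp.ReductiveInvariantsFG k)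
    {A : Type u} [CommRing A] [Algebra k A] [Algebra.FiniteType k A] (ρ : VecGrp.GMod G A) (hρ : ρ.IsMult) :
    Algebra.FiniteType k ↥(ρ.fixedSubalgebra hρ (h ≫ iP)) := by
  obtain ⟨hPm, hPc, hPs, B, gB, b, hB⟩ := hP
  haveI := hPm; haveI := hPc; haveI := hPs
  haveI : IsAffine G.left := hG.1
  haveI : Smooth G.hom := hG.2.1
  haveI : QuasiCompact G.hom := quasiCompact_of_compactSpace _
  haveI : IsAffine P.left := isAffine_of_isAffineHom iP.left
  haveI : QuasiCompact P.hom := quasiCompact_of_compactSpace _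
  haveI : Mono iP := Groth.L08.mono_of_closedImmersion iP
  haveI := hB.1; haveI := hB.2.1; haveI := hB.2.2.1; haveI := hB.2.2.2.1
  haveI : IsMonHom b := Groth.L08.Borel.isMonHom_of_comp_mono b iP _ rfl
  haveI : IsClosedImmersion b.left := by
    haveI : IsClosedImmersion (b.left ≫ iP.left) := by rw [← Over.comp_left]; infer_instance
    exact IsClosedImmersion.of_comp b.left iP.left
  haveI : IsAffine B.left := isAffine_of_isAffineHom b.left
  haveI : QuasiCompact B.hom := quasiCompact_of_compactSpace _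
  haveI : Mono b := Groth.L08.mono_of_closedImmersion b
  obtain ⟨hHm, hHc, hHn, hHs, hHcon, hHns⟩ := unipotentRadical_data hH
  haveI := hHm; haveI := hHc; haveI := hHs; haveI := hHcon
  haveI : IsAffine H.left := isAffine_of_isAffineHom h.left
  haveI : QuasiCompact H.hom := quasiCompact_of_compactSpace _
  haveI : Mono h := Groth.L08.mono_of_closedImmersion h
  -- the identity component of the parabolic subgroup
  obtain ⟨P₀, gP₀, j, hj⟩ := Groth.L08.Chev.exists_idComp P
  haveI := hj.hom; haveI := hj.closedImm; haveI := hj.connectedSpace; haveI := hj.smooth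
  haveI : IsAffine P₀.left := hj.isAffine
  haveI : QuasiCompact P₀.hom := hj.quasiCompact
  haveI : Mono j := Groth.L08.mono_of_closedImmersion j
  obtain ⟨b₀, hb₀⟩ := hj.exists_lift_hom b
  haveI : IsMonHom b₀ := Groth.L08.Borel.isMonHom_of_comp_mono b₀ j b hb₀
  obtain ⟨h₀, hh₀⟩ := hj.exists_lift_hom h
  haveI : IsMonHom h₀ := Groth.L08.Borel.isMonHom_of_comp_mono h₀ j h hh₀
  haveI : IsClosedImmersion h₀.left := by
    haveI : IsClosedImmersion (h₀.left ≫ j.left) := by rw [← Over.comp_left, hh₀]; infer_instance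
    exact IsClosedImmersion.of_comp h₀.left j.left
  haveI hb₀c : IsClosedImmersion b₀.left := by
    haveI : IsClosedImmersion (b₀.left ≫ j.left) := by rw [← Over.comp_left, hb₀]; infer_instance
    exact IsClosedImmersion.of_comp b₀.left j.left
  have hB₀ : Red.IsBorelOver k b₀ := ⟨inferInstance, hb₀c, hB.2.2.1, hB.2.2.2.1, hB.2.2.2.2.1,
    fun B' _ i' _ f hc hs hcon hsol hf => hB.2.2.2.2.2 B' (i' ≫ j ≫ iP) f
      (by haveI := hc; exact inferInstanceAs (IsClosedImmersion (i'.left ≫ j.left ≫ iP.left))) hs hcon hsol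
      (by rw [reassoc_of% hf, reassoc_of% hb₀])⟩
  -- the radical of the Borel subgroup contains the radical of the parabolic subgroup
  obtain ⟨U, gU, u, hU⟩ := exists_unipotentRadical_solvable B hB.2.2.2.2.1
  obtain ⟨hum, huc, -, hus, hucon, -⟩ := unipotentRadical_data hU
  haveI := hum; haveI := huc; haveI := hus; haveI := hucon
  haveI : IsAffine U.left := isAffine_of_isAffineHom u.left
  haveI : QuasiCompact U.hom := quasiCompact_of_compactSpace _
  have hn₀ : AlgGrp.IsNormalHom h₀ := fun X g x => by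
    obtain ⟨y, hy⟩ := hHn X (g ≫ j) x
    refine ⟨y, (cancel_mono j).1 ?_⟩
    rw [MonObj.mul_comp, MonObj.mul_comp, GrpObj.inv_comp, Category.assoc, Category.assoc, hh₀]
    exact hy
  obtain ⟨e₀, he₀⟩ := Groth.L16.RadQuot.solvable_le_borel h₀ (isSolvableGrp_of_noSubtorus H hHns) hn₀ hB₀
  have he₀' : e₀ ≫ b = h := by rw [← hb₀, reassoc_of% he₀, hh₀]
  haveI : IsMonHom e₀ := Groth.L08.Borel.isMonHom_of_comp_mono e₀ b h he₀'
  haveI : IsClosedImmersion e₀.left := by
    haveI : IsClosedImmersion (e₀.left ≫ b.left) := by rw [← Over.comp_left, he₀']; infer_instance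
    exact IsClosedImmersion.of_comp e₀.left b.left
  have hne : AlgGrp.IsNormalHom e₀ := fun X g x => by
    obtain ⟨y, hy⟩ := hHn X (g ≫ b) x
    refine ⟨y, (cancel_mono b).1 ?_⟩
    rw [MonObj.mul_comp, MonObj.mul_comp, GrpObj.inv_comp, Category.assoc, Category.assoc, he₀']
    exact hy
  obtain ⟨e, he⟩ := exists_factor_unipotentRadical hU e₀ hne hHcon hHns
  have heh : h = e ≫ u ≫ b := by rw [reassoc_of% he, he₀']
  -- the restricted action on the invariants
  have hρP : (comap ρ iP).IsMult := fun C _ _ g => hρ C (g ≫ iP)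
  have hS : ∀ g : VecGrp.pt k k ⟶ P, ∀ v ∈ ρ.fixedSubalgebra hρ (h ≫ iP),
      ptAct (comap ρ iP) g v ∈ ρ.fixedSubalgebra hρ (h ≫ iP) := by
    intro g v hv
    refine ptAct_mem_fixed ρ (h ≫ iP) iP (fun t x => ?_) g hv
    obtain ⟨y, hy⟩ := hHn _ t x
    refine ⟨y, ?_⟩
    rw [← Category.assoc x, ← Category.assoc y, ← GrpObj.inv_comp, ← MonObj.mul_comp, ← MonObj.mul_comp, hy]
  obtain ⟨ρS, hρS, hpt⟩ := exists_restrict_pts (comap ρ iP) hρP (ρ.fixedSubalgebra hρ (h ≫ iP)) hS
  have hfix : ∀ s : ρ.fixedSubalgebra hρ (h ≫ iP), s ∈ ρS.fixedUnder h := fun s =>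
    mem_fixedUnder_of_ptAct ρS h fun x => Subtype.ext (by
      rw [hpt, ptAct_comap, Category.assoc]
      exact ptAct_of_fixed ρ (h ≫ iP) s.2 x)
  -- the quotient group
  obtain ⟨Q, gQ, q, hq, hQa, hQs, hqs, hqf, hqlfp, hker⟩ := Groth.L16.LeviAffine.exists_quotient_data h hHn
  haveI := hq; haveI := hQa; haveI := hQs; haveI := hqs; haveI := hqf; haveI := hqlfp
  haveI : QuasiCompact Q.hom := quasiCompact_of_compactSpace _
  have hhq : h ≫ q = 1 := by rw [hker.w, Hom.one_def]
  have hQ : VecGrp.IsReductiveGrp k Q := Groth.L16.LeviAffine.isReductiveGrp_image q h hH hhq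
  obtain ⟨ρQ, hρQ⟩ := exists_descend h q hker ρS hfix
  have hρQm : ρQ.IsMult := by
    intro C _ _ g
    obtain ⟨C', _, _, φ, g', hφ, hg⟩ := exists_lift_cover q g
    have hW : ∀ x, VecGrp.Wmap φ (ρQ.ρ C g x) = ρS.ρ C' g' (VecGrp.Wmap φ x) := fun x => by
      rw [ρQ.naturality, ← hg, hρQ]
    have hWm : ∀ x y : C ⊗[k] ↥(ρ.fixedSubalgebra hρ (h ≫ iP)),
        VecGrp.Wmap φ (x * y) = VecGrp.Wmap φ x * VecGrp.Wmap φ y := fun x y =>
      map_mul (Algebra.TensorProduct.map φ (AlgHom.id k _)) x y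
    refine ⟨fun x y => Wmap_injective φ hφ _ ?_, Wmap_injective φ hφ _ ?_⟩
    · rw [hW, hWm, hWm, hW, hW, (hρS C' g').1]
    · have h1 : VecGrp.Wmap φ (1 : C ⊗[k] ↥(ρ.fixedSubalgebra hρ (h ≫ iP))) = 1 := by
        rw [Algebra.TensorProduct.one_def, VecGrp.Wmap_tmul, map_one, Algebra.TensorProduct.one_def]
      rw [hW, h1, (hρS C' g').2]
  -- the image of the Borel subgroup
  obtain ⟨Q₀, gQ₀, j', hj'⟩ := Groth.L08.Chev.exists_idComp Q
  haveI := hj'.hom; haveI := hj'.closedImm; haveI := hj'.connectedSpace; haveI := hj'.smooth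
  haveI : IsAffine Q₀.left := hj'.isAffine
  haveI : Mono j' := Groth.L08.mono_of_closedImmersion j'
  obtain ⟨q₀, hq₀m, hq₀s, hq₀⟩ := Groth.L08.Borel.exists_surjective_idComp hj hj' q
  haveI := hq₀m; haveI := hq₀s
  obtain ⟨C, gC, p, iC, hpm, hpi, hps, hC⟩ := Groth.L08.Borel.exists_image_borel q₀ hB₀
  haveI := hpm; haveI := hps
  haveI := hC.1; haveI := hC.2.1; haveI := hC.2.2.1; haveI := hC.2.2.2.1
  have hCQ : Red.IsBorelOver k (iC ≫ j') :=
    ⟨inferInstance, inferInstanceAs (IsClosedImmersion (iC.left ≫ j'.left)), hC.2.2.1, hC.2.2.2.1, hC.2.2.2.2.1,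
      fun B' _ i' hi' f hc hs hcon hsol hf => by
        haveI := hc; haveI := hcon
        obtain ⟨i₀, hi₀⟩ := hj'.exists_lift_hom i'
        haveI : IsMonHom i₀ := Groth.L08.Borel.isMonHom_of_comp_mono i₀ j' i' hi₀
        haveI : IsClosedImmersion i₀.left := by
          haveI : IsClosedImmersion (i₀.left ≫ j'.left) := by rw [← Over.comp_left, hi₀]; infer_instance
          exact IsClosedImmersion.of_comp i₀.left j'.left
        exact hC.2.2.2.2.2 B' i₀ f inferInstance hs hcon hsol ((cancel_mono j').1 (by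
          rw [Category.assoc, hi₀, hf]))⟩
  haveI : IsAffine C.left := isAffine_of_isAffineHom iC.left
  obtain ⟨V, gV, v, hV⟩ := exists_unipotentRadical_solvable C hC.2.2.2.2.1
  obtain ⟨hvm, hvc, -, hvs, hvcon, -⟩ := unipotentRadical_data hV
  haveI := hvm; haveI := hvc; haveI := hvs; haveI := hvcon
  haveI : IsAffine V.left := isAffine_of_isAffineHom v.left
  obtain ⟨f, hf, hfs⟩ := exists_surjective_radicals p hU hV
  haveI := hfs
  haveI : LocallyOfFiniteType U.hom := inferInstance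
  haveI : LocallyOfFiniteType V.hom := inferInstance
  have hfq : f ≫ v ≫ iC ≫ j' = u ≫ b ≫ q := by
    rw [reassoc_of% hf, reassoc_of% hpi, hq₀, reassoc_of% hb₀]
  -- comparison of the invariants
  have hact : ∀ (x : VecGrp.pt k k ⟶ P) (s : ρ.fixedSubalgebra hρ (h ≫ iP)),
      (ptAct ρQ (x ≫ q) s : A) = ptAct ρ (x ≫ iP) s := fun x s => by
    rw [ptAct_eq ρQ (x ≫ q) s _ ((hρQ k x _).trans (ptAct_spec ρS x s)), hpt, ptAct_comap]
  obtain ⟨-, -, -, -, -, -, -, hfin⟩ := Groth.L16.GeomRed.borel_radical_setting hG hB hU thmA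
  haveI := hfin A ρ hρ
  have hle : ∀ x : A, x ∈ ρ.fixedSubalgebra hρ (u ≫ b ≫ iP) → x ∈ ρ.fixedSubalgebra hρ (h ≫ iP) := by
    intro x hx C' _ _ y
    have := hx C' (y ≫ e)
    rwa [show (y ≫ e) ≫ u ≫ b ≫ iP = y ≫ h ≫ iP by rw [heh]; simp only [Category.assoc]] at this
  have hmem : ∀ s : ρ.fixedSubalgebra hρ (h ≫ iP),
      s ∈ ρQ.fixedSubalgebra hρQm (v ≫ iC ≫ j') ↔ (s : A) ∈ ρ.fixedSubalgebra hρ (u ≫ b ≫ iP) := by
    intro s
    constructor
    · intro hs
      refine mem_fixedUnder_of_ptAct ρ _ fun y => ?_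
      have h1 := congrArg Subtype.val (ptAct_of_fixed ρQ _ hs (y ≫ f))
      rw [show (y ≫ f) ≫ v ≫ iC ≫ j' = (y ≫ u ≫ b) ≫ q by simp only [Category.assoc, hfq], hact] at h1
      simpa only [Category.assoc] using h1
    · intro hs
      let ptIso : VecGrp.pt k k ≅ 𝟙_ (Over (Spec (CommRingCat.of k))) :=
        Over.isoMk (Iso.refl (Spec (CommRingCat.of k))) (by
          rw [show (VecGrp.pt k k).hom = 𝟙 (Spec (CommRingCat.of k)) from Spec.map_id (CommRingCat.of k)]; rfl)
      refine mem_fixedUnder_of_ptAct ρQ _ fun z => Subtype.ext ?_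
      obtain ⟨y₀, hy₀⟩ := Groth.L08.Borel.exists_pt_lift f (ptIso.inv ≫ z) (f.left.surjective _)
      obtain ⟨y, rfl⟩ : ∃ y : VecGrp.pt k k ⟶ U, y ≫ f = z := ⟨ptIso.hom ≫ y₀, by rw [Category.assoc, hy₀, Iso.hom_inv_id_assoc]⟩
      rw [show (y ≫ f) ≫ v ≫ iC ≫ j' = (y ≫ u ≫ b) ≫ q by simp only [Category.assoc, hfq], hact]
      simpa only [Category.assoc] using ptAct_of_fixed ρ _ hs y
  let eqv : ↥(ρ.fixedSubalgebra hρ (u ≫ b ≫ iP)) ≃ₐ[k] ↥(ρQ.fixedSubalgebra hρQm (v ≫ iC ≫ j')) :=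
    AlgEquiv.ofBijective
      ({ toFun := fun x => ⟨⟨x.1, hle x.1 x.2⟩, (hmem _).2 x.2⟩
         map_one' := rfl
         map_mul' := fun _ _ => rfl
         map_zero' := rfl
         map_add' := fun _ _ => rfl
         commutes' := fun _ => rfl } : _ →ₐ[k] _)
      ⟨fun x y h => Subtype.ext (congrArg (fun z => (z.1 : A)) h),
        fun y => ⟨⟨y.1.1, (hmem _).1 y.2⟩, rfl⟩⟩
  exact finiteType_of_invariants hQ hCQ hV thmA ρQ hρQm (Algebra.FiniteType.equiv inferInstance eqv)

end Groth.L16.FinGen
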