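import Groth.Agent.L16.Weights.Filt
import Groth.Agent.L16.GeomRed.StableClosure
import Groth.Agent.L25.Observable.Transfer

/-!
# Tools for actions on rings of equivariant functions
-/

set_option autoImplicit false
set_option backward.isDefEq.respectTransparency.types false
set_option linter.unusedSectionVars false
set_option linter.style.haveILetI false
set_option maxHeartbeats 1000000

universe u

open CategoryTheory MonoidalCategory CartesianMonoidalCategory MonObj AlgebraicGeometry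
open scoped TensorProduct
open Groth.L25.Observable

noncomputable section

namespace Groth.L16.FinGen

variable {k : Type u} [Field k] {G : Over (Spec (CommRingCat.of k))} [GrpObj G]

theorem ptAct_eq [IsAlgClosed k] {V : Type u} [AddCommGroup V] [Module k V] (ρ : VecGrp.GMod G V)
    (g : VecGrp.pt k k ⟶ G) (v w : V) (h : ρ.ρ k g ((1 : k) ⊗ₜ[k] v) = (1 : k) ⊗ₜ[k] w) : ptAct ρ g v = w :=
  (congrArg (TensorProduct.lid k V) h).trans (by simp)

/-- Transport of an action along an algebra automorphism of order two. -/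
theorem exists_conj {A : Type u} [CommRing A] [Algebra k A] (m : VecGrp.GMod G A) (hm : m.IsMult) (σ : A →ₐ[k] A)
    (hσ : ∀ a, σ (σ a) = a) :
    ∃ m' : VecGrp.GMod G A, m'.IsMult ∧ ∀ (g : VecGrp.pt k k ⟶ G) (a w : A),
      m.ρ k g ((1 : k) ⊗ₜ[k] σ a) = (1 : k) ⊗ₜ[k] w → m'.ρ k g ((1 : k) ⊗ₜ[k] a) = (1 : k) ⊗ₜ[k] σ w := by
  let e : A ≃ₐ[k] A := AlgEquiv.ofAlgHom σ σ (AlgHom.ext hσ) (AlgHom.ext hσ)
  let eB : ∀ (B : Type u) [CommRing B] [Algebra k B], B ⊗[k] A ≃ₐ[B] B ⊗[k] A := fun B _ _ =>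
    Algebra.TensorProduct.congr AlgEquiv.refl e
  let m' : VecGrp.GMod G A :=
    { ρ := fun B _ _ => MonoidHom.mk'
        (fun g => (eB B).toLinearEquiv ≪≫ₗ m.ρ B g ≪≫ₗ (eB B).toLinearEquiv.symm)
        fun g g' => LinearEquiv.ext fun x => by
          show (eB B).symm (m.ρ B (g * g') (eB B x)) =
            (eB B).symm (m.ρ B g (eB B ((eB B).symm (m.ρ B g' (eB B x)))))
          rw [AlgEquiv.apply_symm_apply, map_mul]
          rfl
      naturality := fun {B B'} _ _ _ _ φ g x => by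
        have key : ∀ z : B ⊗[k] A, VecGrp.Wmap φ (eB B z) = eB B' (VecGrp.Wmap φ z) := by
          intro z
          induction z using TensorProduct.induction_on with
          | zero => simp
          | add p q hp hq => simp only [map_add, hp, hq]
          | tmul b a => simp [eB, VecGrp.Wmap]
        refine (eB B').injective ?_
        show eB B' (VecGrp.Wmap φ ((eB B).symm (m.ρ B g (eB B x)))) =
          eB B' ((eB B').symm (m.ρ B' _ (eB B' (VecGrp.Wmap φ x))))
        rw [← key, AlgEquiv.apply_symm_apply, AlgEquiv.apply_symm_apply, m.naturality, key] }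
  refine ⟨m', fun B _ _ g => ⟨fun x y => ?_, ?_⟩, fun g a w h => ?_⟩
  · show (eB B).symm (m.ρ B g (eB B (x * y))) = (eB B).symm (m.ρ B g (eB B x)) * (eB B).symm (m.ρ B g (eB B y))
    rw [map_mul (eB B), (hm B g).1, map_mul]
  · show (eB B).symm (m.ρ B g (eB B 1)) = 1
    rw [map_one (eB B), (hm B g).2, map_one]
  · show (eB k).symm (m.ρ k g (eB k ((1 : k) ⊗ₜ[k] a))) = _
    rw [AlgEquiv.symm_apply_eq]
    show m.ρ k g ((1 : k) ⊗ₜ[k] σ a) = (1 : k) ⊗ₜ[k] σ (σ w)
    rw [h, hσ]

/-- The left translation action on the coordinate ring. -/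
theorem exists_left_regular [IsAlgClosed k] {A : Type u} [CommRing A] [HopfAlgebra k A] (ψ : G ⟶ Sp k A)
    [IsMonHom ψ] [IsIso ψ] [_root_.IsReduced A] [Algebra.FiniteType k A] :
    ∃ m : VecGrp.GMod G A, m.IsMult ∧ ∀ (g x : VecGrp.pt k k ⟶ G) (a : A),
      (ev ψ x).ofConv (ptAct m g a) = (ev ψ (g⁻¹ * x)).ofConv a := by
  obtain ⟨m, hm, hmpt⟩ := exists_regular ψ (𝟙 G)
  obtain ⟨m', hm', hm'pt⟩ := exists_conj m hm (HopfAlgebra.antipodeAlgHom k A)
    (fun a => eq_of_forall_ev ψ fun x => by rw [← ev_inv, ← ev_inv, _root_.inv_inv])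
  refine ⟨m', hm', fun g x a => ?_⟩
  rw [ptAct_eq m' g a _ (hm'pt g a _ (hmpt g _)), ← ev_inv, apply_Rt, ← ev_mul, Category.comp_id, ← ev_inv,
    _root_.mul_inv_rev, _root_.inv_inv]

variable [IsAlgClosed k] [IsAffine G.left] [Smooth G.hom]

/-- A stable subalgebra carries the restricted action, described on rational points. -/
theorem exists_restrict_pts {R : Type u} [CommRing R] [Algebra k R] (ρR : VecGrp.GMod G R) (hρR : ρR.IsMult)
    (S : Subalgebra k R) (hS : ∀ (g : VecGrp.pt k k ⟶ G), ∀ v ∈ S, ptAct ρR g v ∈ S) :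
    ∃ ρS : VecGrp.GMod G S, ρS.IsMult ∧ ∀ (g : VecGrp.pt k k ⟶ G) (s : S), (ptAct ρS g s : R) = ptAct ρR g s := by
  obtain ⟨mS, hmS⟩ := Groth.L25.Observable.exists_restrict ρR (Subalgebra.toSubmodule S)
    (Groth.L16.Matsushima.isStable_of_pts ρR _ hS)
  let ρS : VecGrp.GMod G S := mS
  have e : ∀ (B : Type u) [CommRing B] [Algebra k B] (z : B ⊗[k] S),
      Algebra.TensorProduct.map (AlgHom.id B B) S.val z = (Subalgebra.toSubmodule S).subtype.baseChange B z := by
    intro B _ _ z
    induction z using TensorProduct.induction_on with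
    | zero => exact (map_zero _).trans (map_zero _).symm
    | add p q hp hq => exact (map_add _ p q).trans ((congrArg₂ (· + ·) hp hq).trans (map_add _ p q).symm)
    | tmul b c => rfl
  have hρSv : ∀ (B : Type u) [CommRing B] [Algebra k B] (g : VecGrp.pt k B ⟶ G) (z : B ⊗[k] S),
      Algebra.TensorProduct.map (AlgHom.id B B) S.val (ρS.ρ B g z) =
        ρR.ρ B g (Algebra.TensorProduct.map (AlgHom.id B B) S.val z) := fun B _ _ g z => by
    rw [e, e]; exact hmS B g z
  have hinj : ∀ (B : Type u) [CommRing B] [Algebra k B],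
      Function.Injective (Algebra.TensorProduct.map (AlgHom.id B B) S.val) := fun B _ _ =>
    Module.Flat.lTensor_preserves_injective_linearMap (M := B) S.val.toLinearMap Subtype.val_injective
  refine ⟨ρS, fun B _ _ g => ⟨fun x y => hinj B ?_, hinj B ?_⟩, fun g s => ?_⟩
  · rw [hρSv B g, map_mul, (hρR B g).1, map_mul, hρSv B g, hρSv B g]
  · rw [hρSv B g, map_one, (hρR B g).2]
  · have h := hρSv k g ((1 : k) ⊗ₜ[k] s)
    rw [ptAct_spec, Algebra.TensorProduct.map_tmul, Algebra.TensorProduct.map_tmul] at h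
    exact (ptAct_eq ρR g _ _ h.symm).symm

/-- The action on a tensor product, on rational points. -/
theorem exists_tensor_pts {A C : Type u} [CommRing A] [Algebra k A] [CommRing C] [Algebra k C]
    (ρA : VecGrp.GMod G A) (hA : ρA.IsMult) (ρC : VecGrp.GMod G C) (hC : ρC.IsMult) :
    ∃ ρ : VecGrp.GMod G (A ⊗[k] C), ρ.IsMult ∧ ∀ (g : VecGrp.pt k k ⟶ G) (a : A) (c : C),
      ptAct ρ g (a ⊗ₜ[k] c) = ptAct ρA g a ⊗ₜ[k] ptAct ρC g c := by
  obtain ⟨ρ, hρ, hgen⟩ := exists_tensor ρA hA ρC hC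
  refine ⟨ρ, hρ, fun g a c => ptAct_eq ρ g _ _ ?_⟩
  rw [hgen, ptAct_spec, ptAct_spec, Algebra.TensorProduct.map_tmul, Algebra.TensorProduct.map_tmul,
    Algebra.TensorProduct.tmul_mul_tmul]
  simp

omit [IsAlgClosed k] [IsAffine G.left] [Smooth G.hom] in
theorem trivial_isMult {A : Type u} [CommRing A] [Algebra k A] : (VecGrp.GMod.trivial G A).IsMult :=
  fun _ _ _ _ => ⟨fun _ _ => rfl, rfl⟩

omit [IsAffine G.left] [Smooth G.hom] in
theorem ptAct_trivial {A : Type u} [CommRing A] [Algebra k A] (g : VecGrp.pt k k ⟶ G) (a : A) :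
    ptAct (VecGrp.GMod.trivial G A) g a = a :=
  ptAct_eq _ g a a rfl

omit [IsAlgClosed k] [IsAffine G.left] [Smooth G.hom] in
/-- An element of the algebra generated by a set is in the algebra generated by finitely many of its members. -/
theorem exists_finset_mem_adjoin {R : Type u} [CommRing R] [Algebra k R] {S : Set R} {x : R}
    (hx : x ∈ Algebra.adjoin k S) : ∃ F : Finset R, ↑F ⊆ S ∧ x ∈ Algebra.adjoin k (F : Set R) := by
  classical
  induction hx using Algebra.adjoin_induction with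
  | mem y hy => exact ⟨{y}, by simpa using hy, Algebra.subset_adjoin (by simp)⟩
  | algebraMap r => exact ⟨∅, by simp, Subalgebra.algebraMap_mem _ r⟩
  | add y z _ _ hy hz =>
    obtain ⟨F, hF, hy⟩ := hy
    obtain ⟨F', hF', hz⟩ := hz
    exact ⟨F ∪ F', by simp [hF, hF'], Subalgebra.add_mem _ (Algebra.adjoin_mono (by simp) hy)
      (Algebra.adjoin_mono (by simp) hz)⟩
  | mul y z _ _ hy hz =>
    obtain ⟨F, hF, hy⟩ := hy
    obtain ⟨F', hF', hz⟩ := hz
    exact ⟨F ∪ F', by simp [hF, hF'], Subalgebra.mul_mem _ (Algebra.adjoin_mono (by simp) hy)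
      (Algebra.adjoin_mono (by simp) hz)⟩

end Groth.L16.FinGen
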